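import Mathlib

/-!
# Fixed-point dimensions

A representation is *tight* when every non-identity element fixes less than one sixth of the space.
-/

set_option autoImplicit false

namespace Cfsg.Agent.FixDim

open Module LinearMap

variable {K : Type*} [Field K] {V : Type*} [AddCommGroup V] [Module K V]
variable {G : Type*} [Group G] (ρ : Representation K G V)

/-- The fixed space of `g`. -/
def fixSp (g : G) : Submodule K V := LinearMap.ker (ρ g - 1)

/-- The dimension of the fixed space of `g`. -/
noncomputable def fdim (g : G) : ℕ := finrank K (fixSp ρ g)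

/-- Every non-identity element fixes less than a sixth of the space. -/
def Tight : Prop := ∀ g : G, g ≠ 1 → 6 * fdim ρ g < finrank K V

variable {ρ}

theorem mem_fixSp {g : G} {v : V} : v ∈ fixSp ρ g ↔ ρ g v = v := by
  simp [fixSp, sub_eq_zero]

theorem rho_inv_self (g : G) (v : V) : ρ g⁻¹ (ρ g v) = v := by
  rw [← Module.End.mul_apply, ← map_mul, inv_mul_cancel, map_one, Module.End.one_apply]

theorem rho_self_inv (g : G) (v : V) : ρ g (ρ g⁻¹ v) = v := by
  rw [← Module.End.mul_apply, ← map_mul, mul_inv_cancel, map_one, Module.End.one_apply]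

theorem rho_mul_apply (g h : G) (v : V) : ρ (g * h) v = ρ g (ρ h v) := by
  rw [map_mul, Module.End.mul_apply]

theorem fixSp_inv (g : G) : fixSp ρ g⁻¹ = fixSp ρ g := by
  ext v
  rw [mem_fixSp, mem_fixSp]
  constructor <;> intro h
  · conv_lhs => rw [← h]
    exact rho_self_inv g v
  · conv_lhs => rw [← h]
    exact rho_inv_self g v

theorem fdim_inv (g : G) : fdim ρ g⁻¹ = fdim ρ g := by rw [fdim, fdim, fixSp_inv]

theorem fixSp_conj (h g : G) :
    (fixSp ρ g).map (ρ h) = fixSp ρ (h * g * h⁻¹) := by
  ext v
  rw [Submodule.mem_map]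
  constructor
  · rintro ⟨w, hw, rfl⟩
    rw [mem_fixSp] at hw ⊢
    rw [rho_mul_apply, rho_mul_apply, rho_inv_self, hw]
  · intro hv
    refine ⟨ρ h⁻¹ v, ?_, rho_self_inv h v⟩
    rw [mem_fixSp] at hv ⊢
    conv_rhs => rw [← hv, ← rho_mul_apply]
    rw [← rho_mul_apply]
    congr 2
    group

theorem rho_injective (h : G) : Function.Injective (ρ h) := fun a b e => by
  rw [← rho_inv_self (ρ := ρ) h a, e, rho_inv_self]

theorem fdim_conj (h g : G) : fdim ρ (h * g * h⁻¹) = fdim ρ g := by
  rw [fdim, fdim, ← fixSp_conj]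
  exact (Submodule.equivMapOfInjective _ (rho_injective h) _).finrank_eq.symm

theorem fixSp_pow_le (g : G) (n : ℕ) : fixSp ρ g ≤ fixSp ρ (g ^ n) := by
  intro v hv
  rw [mem_fixSp] at hv ⊢
  induction n with
  | zero => simp
  | succ n ih => rw [pow_succ, rho_mul_apply, hv, ih]

theorem fdim_one : fdim ρ (1 : G) = finrank K V := by
  rw [fdim, show fixSp ρ (1 : G) = ⊤ by ext v; simp [mem_fixSp], finrank_top]

theorem Tight.comp (h : Tight ρ) {H : Type*} [Group H] {f : H →* G} (hf : Function.Injective f) :
    Tight (K := K) (V := V) (ρ.comp f) := fun g hg =>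
  h (f g) fun e => hg (hf (by rw [e, map_one]))

section FinDim

variable [FiniteDimensional K V]

theorem Tight.pos (h : Tight ρ) {g : G} (hg : g ≠ 1) : 0 < finrank K V :=
  lt_of_le_of_lt (Nat.zero_le _) (h g hg)

/-- The kernel of a composite. -/
theorem finrank_ker_mul_le (a b : Module.End K V) :
    finrank K (ker (a * b)) ≤ finrank K (ker a) + finrank K (ker b) := by
  have h := (b.domRestrict (ker (a * b))).finrank_range_add_finrank_ker
  have h1 : finrank K (range (b.domRestrict (ker (a * b)))) ≤ finrank K (ker a) := by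
    refine Submodule.finrank_mono ?_
    rintro _ ⟨⟨v, hv⟩, rfl⟩
    simpa using hv
  have h2 : finrank K (ker (b.domRestrict (ker (a * b)))) ≤ finrank K (ker b) := by
    rw [← Submodule.finrank_map_subtype_eq]
    refine Submodule.finrank_mono ?_
    rintro _ ⟨⟨v, hv⟩, h', rfl⟩
    simpa using h'
  omega

theorem finrank_ker_pow_le (x : Module.End K V) (n : ℕ) :
    finrank K (ker (x ^ n)) ≤ n * finrank K (ker x) := by
  induction n with
  | zero => simp [Module.End.one_eq_id, ker_id]
  | succ n ih =>
    rw [pow_succ]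
    refine (finrank_ker_mul_le _ _).trans ?_
    rw [Nat.succ_mul]
    omega

/-- An element of prime order equal to the characteristic fixes the reciprocal of its order. -/
theorem le_mul_fdim_of_char {r : ℕ} [Fact r.Prime] (hr : (r : K) = 0) {g : G} (hg : g ^ r = 1) :
    finrank K V ≤ r * fdim ρ g := by
  rcases subsingleton_or_nontrivial V with hV | hV
  · rw [Module.finrank_zero_of_subsingleton]; exact Nat.zero_le _
  haveI : CharP K r := CharP.congr _ ((CharP.ringChar_of_prime_eq_zero Fact.out hr))
  haveI : CharP (Module.End K V) r :=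
    charP_of_injective_algebraMap (FaithfulSMul.algebraMap_injective K (Module.End K V)) r
  have h : (ρ g - 1) ^ r = 0 := by
    rw [sub_pow_char_of_commute r (Commute.one_right _), ← map_pow, hg, map_one, one_pow, sub_self]
  have h2 := finrank_ker_pow_le (ρ g - 1) r
  rw [h, ker_zero, finrank_top] at h2
  exact h2

/-- In a tight representation small primes dividing the group are invertible. -/
theorem Tight.natCast_ne_zero (h : Tight ρ) {r : ℕ} [Fact r.Prime] (hr6 : r ≤ 6) {g : G}
    (hg : orderOf g = r) : (r : K) ≠ 0 := by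
  intro h0
  have hg1 : g ≠ 1 := fun e => (Fact.out : r.Prime).one_lt.ne' (by rw [← hg, e, orderOf_one])
  have h1 := le_mul_fdim_of_char (ρ := ρ) h0 (hg ▸ pow_orderOf_eq_one g)
  have h2 := h g hg1
  have := Nat.mul_le_mul_right (fdim ρ g) hr6
  omega

theorem finrank_sup_le (A B : Submodule K V) :
    finrank K (A ⊔ B : Submodule K V) ≤ finrank K A + finrank K B := by
  rw [← Submodule.finrank_sup_add_finrank_inf_eq]
  exact Nat.le_add_right _ _

/-- Three commuting elements permuted cyclically by an element of order three. -/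
theorem triple_bound {τ a b c : G} (hτ : τ ^ 3 = 1) (hab : Commute a b) (hac : Commute a c)
    (hbc : Commute b c) (h1 : τ * a = b * τ) (h2 : τ * b = c * τ) (h3 : τ * c = a * τ) :
    finrank K V ≤ 3 * fdim ρ τ + fdim ρ (a⁻¹ * b) + fdim ρ (a⁻¹ * c) := by
  set A := ρ a with hA
  set B := ρ b with hB
  set C := ρ c with hC
  set F := fixSp ρ τ with hF
  set E : Module.End K V := (A - B) * (A - C) with hE
  have hker : finrank K (ker E) ≤ fdim ρ (a⁻¹ * b) + fdim ρ (a⁻¹ * c) := by
    refine (finrank_ker_mul_le _ _).trans (Nat.add_le_add ?_ ?_)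
    · refine Submodule.finrank_mono fun v hv => ?_
      rw [LinearMap.mem_ker, LinearMap.sub_apply, sub_eq_zero] at hv
      rw [mem_fixSp, rho_mul_apply, ← hv, hA, rho_inv_self]
    · refine Submodule.finrank_mono fun v hv => ?_
      rw [LinearMap.mem_ker, LinearMap.sub_apply, sub_eq_zero] at hv
      rw [mem_fixSp, rho_mul_apply, ← hv, hA, rho_inv_self]
  have hN : ∀ u : V, u + ρ τ u + ρ τ (ρ τ u) ∈ F := fun u => by
    rw [hF, mem_fixSp, map_add, map_add]
    conv_lhs => arg 2; rw [← rho_mul_apply, ← rho_mul_apply, ← pow_three', hτ, map_one,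
      Module.End.one_apply]
    abel
  have hAT : ∀ u : V, A (ρ τ u) = ρ τ (C u) := fun u => by
    rw [hA, hC, ← rho_mul_apply, ← rho_mul_apply, h3]
  have hCT : ∀ u : V, C (ρ τ u) = ρ τ (B u) := fun u => by
    rw [hC, hB, ← rho_mul_apply, ← rho_mul_apply, h2]
  have hcomm : ∀ {x y : G}, Commute x y → ∀ u : V, ρ x (ρ y u) = ρ y (ρ x u) := fun hxy u => by
    rw [← rho_mul_apply, ← rho_mul_apply, hxy.eq]
  have hrange : range E ≤ F ⊔ F.map A ⊔ (F.map A).map A := by
    rintro _ ⟨v, rfl⟩
    set u0 := B (C v) with hu0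
    set u1 := -(B v + C v) with hu1
    have key : E v = (u0 + ρ τ u0 + ρ τ (ρ τ u0)) + A (u1 + ρ τ u1 + ρ τ (ρ τ u1)) +
        A (A (v + ρ τ v + ρ τ (ρ τ v))) := by
      simp only [hE, hu0, hu1, Module.End.mul_apply, LinearMap.sub_apply, map_add, map_neg,
        map_sub, hAT, hCT]
      simp only [hA, hB, hC, hcomm hab, hcomm hac, hcomm hbc]
      abel
    rw [key]
    exact Submodule.add_mem _ (Submodule.add_mem _
      (Submodule.mem_sup_left (Submodule.mem_sup_left (hN _)))
      (Submodule.mem_sup_left (Submodule.mem_sup_right (Submodule.mem_map_of_mem (hN _)))))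
      (Submodule.mem_sup_right (Submodule.mem_map_of_mem (Submodule.mem_map_of_mem (hN _))))
  have hA1 := Submodule.finrank_map_le A F
  have hA2 := Submodule.finrank_map_le A (F.map A)
  have h4 := (Submodule.finrank_mono hrange).trans ((finrank_sup_le _ _).trans
    (Nat.add_le_add_right (finrank_sup_le _ _) _))
  have h5 := E.finrank_range_add_finrank_ker
  have hF' : finrank K F = fdim ρ τ := rfl
  omega

/-- The triple configuration does not occur in a tight representation. -/
theorem Tight.no_triple (h : Tight ρ) {τ a b c : G} (hτ : τ ^ 3 = 1) (hab : Commute a b)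
    (hac : Commute a c) (hbc : Commute b c) (h1 : τ * a = b * τ) (h2 : τ * b = c * τ)
    (h3 : τ * c = a * τ) (hne : a ≠ b) : False := by
  have hτ1 : τ ≠ 1 := fun e => hne (by simpa [e] using h1)
  have hac' : a ≠ c := fun e => by
    subst e
    exact hne (mul_right_cancel (h3.symm.trans h1))
  have hb := triple_bound (ρ := ρ) hτ hab hac hbc h1 h2 h3
  have e1 := h τ hτ1
  have e2 := h (a⁻¹ * b) fun e => hne (inv_mul_eq_one.1 e)
  have e3 := h (a⁻¹ * c) fun e => hac' (inv_mul_eq_one.1 e)
  omega

/-- A tight representation has no elementary abelian subgroup of rank two for the primes two,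
three and five. -/
theorem Tight.no_pair (h : Tight ρ) {r : ℕ} [Fact r.Prime] (hr5 : r ≤ 5) {a b : G}
    (hab : Commute a b) (ha : a ^ r = 1) (hb : b ^ r = 1) (ha1 : a ≠ 1)
    (hb2 : b ∉ Subgroup.zpowers a) : False := by
  have hr0 : (r : K) ≠ 0 :=
    h.natCast_ne_zero (by omega) (orderOf_eq_prime ha ha1)
  set F : ℕ → Submodule K V := fun m => fixSp ρ (b * a ^ m) with hFdef
  set N : G → V → V := fun g v => ∑ k ∈ Finset.range r, ρ (g ^ k) v with hNdef
  have hN : ∀ g : G, g ^ r = 1 → ∀ v, N g v ∈ fixSp ρ g := fun g hg v => by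
    rw [mem_fixSp]
    show ρ g (∑ k ∈ Finset.range r, ρ (g ^ k) v) = ∑ k ∈ Finset.range r, ρ (g ^ k) v
    rw [map_sum]
    simp only [← rho_mul_apply, ← pow_succ']
    have hs := Finset.sum_range_succ' (fun k => ρ (g ^ k) v) r
    have hs' := Finset.sum_range_succ (fun k => ρ (g ^ k) v) r
    rw [hs'] at hs
    simp only [hg, pow_zero, map_one, Module.End.one_apply] at hs
    exact (add_right_cancel hs).symm
  have htop : (⊤ : Submodule K V) ≤ fixSp ρ a ⊔ (Finset.range r).sup F := by
    intro v _
    have hord : orderOf a = r := orderOf_eq_prime ha ha1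
    have hsum : ∑ m ∈ Finset.range r, N (b * a ^ m) v =
        (r : K) • v + ∑ k ∈ Finset.Ico 1 r, ρ (b ^ k) (N a v) := by
      rw [hNdef]
      simp only
      rw [Finset.sum_comm, Finset.range_eq_Ico, Finset.sum_eq_sum_Ico_succ_bot (Fact.out : r.Prime).pos]
      congr 1
      · simp [← Nat.cast_smul_eq_nsmul K]
      · refine Finset.sum_congr rfl fun k hk => ?_
        rw [Finset.mem_Ico] at hk
        rw [map_sum]
        have hcop : Nat.Coprime r k := ((Fact.out : r.Prime).coprime_iff_not_dvd).2
          (Nat.not_dvd_of_pos_of_lt (by omega) hk.2)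
        refine Finset.sum_nbij (fun m => m * k % r) ?_ ?_ ?_ ?_
        · intro m _
          simp [Nat.mod_lt _ (Fact.out : r.Prime).pos]
        · intro m hm m' hm' e
          simp only [Finset.coe_Ico, Set.mem_Ico] at hm hm'
          have e' : m * k ≡ m' * k [MOD r] := e
          have := Nat.ModEq.cancel_right_of_coprime hcop e'
          exact Nat.ModEq.eq_of_lt_of_lt this hm.2 hm'.2
        · intro j hj
          simp only [Finset.coe_Ico, Set.mem_Ico] at hj
          obtain ⟨k', -, hk'⟩ := Nat.exists_mul_mod_eq_one_of_coprime hcop.symm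
            (Fact.out : r.Prime).one_lt
          refine ⟨j * k' % r, by simp [Nat.mod_lt _ (Fact.out : r.Prime).pos], ?_⟩
          show j * k' % r * k % r = j
          rw [Nat.mod_mul_mod, mul_assoc, mul_comm k', Nat.mul_mod, hk', mul_one,
            Nat.mod_mod, Nat.mod_eq_of_lt hj.2]
        · intro m _
          rw [← rho_mul_apply, (hab.symm.pow_right m).mul_pow, ← pow_mul]
          congr 3
          rw [← hord, pow_mod_orderOf]
    have hmem1 : ∑ m ∈ Finset.range r, N (b * a ^ m) v ∈ fixSp ρ a ⊔ (Finset.range r).sup F :=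
      Submodule.sum_mem _ fun m hm => Submodule.mem_sup_right
        ((Finset.le_sup hm : F m ≤ (Finset.range r).sup F) (hN _ (by rw [(hab.symm.pow_right m).mul_pow, hb, ← pow_mul, mul_comm m, pow_mul, ha,
          one_pow, one_mul]) v))
    have hmem2 : ∑ k ∈ Finset.Ico 1 r, ρ (b ^ k) (N a v) ∈ fixSp ρ a := by
      refine Submodule.sum_mem _ fun k _ => ?_
      rw [mem_fixSp, ← rho_mul_apply, (hab.pow_right k).eq, rho_mul_apply,
        mem_fixSp.1 (hN a ha v)]
    have h3 : (r : K) • v ∈ fixSp ρ a ⊔ (Finset.range r).sup F :=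
      (Submodule.add_mem_iff_left _ (Submodule.mem_sup_left hmem2)).1 (hsum ▸ hmem1)
    simpa [smul_smul, hr0] using Submodule.smul_mem _ ((r : K)⁻¹) h3
  have hsup : ∀ s : Finset ℕ, 6 * finrank K (s.sup F : Submodule K V) ≤ s.card * (finrank K V - 1) := by
    intro s
    induction s using Finset.induction with
    | empty => simp
    | insert m s hm ih =>
      rw [Finset.sup_insert, Finset.card_insert_of_notMem hm, add_mul, one_mul]
      have h1 := finrank_sup_le (F m) (s.sup F)
      have h2 : 6 * finrank K (F m) < finrank K V := h _ fun e => hb2 (by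
        rw [mul_eq_one_iff_eq_inv.1 e]
        exact Subgroup.inv_mem _ (Subgroup.npow_mem_zpowers a m))
      omega
  have h1 := hsup (Finset.range r)
  rw [Finset.card_range] at h1
  have h2 := (Submodule.finrank_mono htop).trans (finrank_sup_le _ _)
  rw [finrank_top] at h2
  have h3 : 6 * finrank K (fixSp ρ a) < finrank K V := h a ha1
  have h4 := Nat.mul_le_mul_right (finrank K V - 1) hr5
  omega

end FinDim

end Cfsg.Agent.FixDim
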