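import Mathlib
import Cfsg.Agent.Lib.FixDim.Basic

/-!
# Elements of `SL₂(p)` and conjugacy by the trace
-/

set_option autoImplicit false

namespace Cfsg.Agent.FixDim

open Matrix
open scoped MatrixGroups

variable {F : Type*} [Field F]

/-- The element with the given entries. -/
def mk2 (a b c d : F) (h : a * d - b * c = 1) : SL(2, F) :=
  ⟨!![a, b; c, d], by rw [Matrix.det_fin_two_of]; exact h⟩

/-- Upper unitriangular elements. -/
def uT (t : F) : SL(2, F) := mk2 1 t 0 1 (by ring)

/-- Lower unitriangular elements. -/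
def lT (t : F) : SL(2, F) := mk2 1 0 t 1 (by ring)

/-- The companion element of trace `t`. -/
def comp2 (t : F) : SL(2, F) := mk2 0 (-1) 1 t (by ring)

/-- Diagonal elements. -/
def dT (x : Fˣ) : SL(2, F) := mk2 x 0 0 (x⁻¹ : Fˣ) (by simp)

/-- The standard element of order three. -/
def sThree (F : Type*) [Field F] : SL(2, F) := comp2 (-1)

/-- The standard element of order four. -/
def iFour (F : Type*) [Field F] : SL(2, F) := comp2 0

theorem sl_ext {A B : SL(2, F)} (h00 : A.1 0 0 = B.1 0 0) (h01 : A.1 0 1 = B.1 0 1)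
    (h10 : A.1 1 0 = B.1 1 0) (h11 : A.1 1 1 = B.1 1 1) : A = B := by
  ext i j
  fin_cases i <;> fin_cases j <;> assumption

theorem mul_entry (A B : SL(2, F)) (i j : Fin 2) :
    (A * B).1 i j = A.1 i 0 * B.1 0 j + A.1 i 1 * B.1 1 j := by
  show (A.1 * B.1) i j = _
  rw [Matrix.mul_apply, Fin.sum_univ_two]

@[simp] theorem mk2_00 (a b c d : F) (h) : (mk2 a b c d h).1 0 0 = a := rfl
@[simp] theorem mk2_01 (a b c d : F) (h) : (mk2 a b c d h).1 0 1 = b := rfl
@[simp] theorem mk2_10 (a b c d : F) (h) : (mk2 a b c d h).1 1 0 = c := rfl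
@[simp] theorem mk2_11 (a b c d : F) (h) : (mk2 a b c d h).1 1 1 = d := rfl

theorem mk2_mul (a b c d a' b' c' d' : F) (h h') :
    mk2 a b c d h * mk2 a' b' c' d' h' =
      mk2 (a * a' + b * c') (a * b' + b * d') (c * a' + d * c') (c * b' + d * d')
        (by linear_combination (a' * d' - b' * c') * h + h') := by
  apply sl_ext <;> simp [mul_entry]

theorem mk2_congr {a b c d a' b' c' d' : F} {h h'} (ha : a = a') (hb : b = b') (hc : c = c')
    (hd : d = d') : mk2 a b c d h = mk2 a' b' c' d' h' := by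
  subst ha hb hc hd; rfl

theorem one_eq_mk2 : (1 : SL(2, F)) = mk2 1 0 0 1 (by ring) := by
  apply sl_ext <;> simp

theorem neg_mk2 (a b c d : F) (h) :
    -(mk2 a b c d h) = mk2 (-a) (-b) (-c) (-d) (by linear_combination h) := by
  apply sl_ext <;> simp

theorem uT_mul (s t : F) : uT s * uT t = uT (s + t) := by
  rw [uT, uT, uT, mk2_mul]; exact mk2_congr (by ring) (by ring) (by ring) (by ring)

theorem uT_zero : uT (0 : F) = 1 := by rw [one_eq_mk2]; rfl

theorem uT_pow (t : F) (n : ℕ) : uT t ^ n = uT (n * t) := by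
  induction n with
  | zero => simp [uT_zero]
  | succ n ih => rw [pow_succ, ih, uT_mul]; congr 1; push_cast; ring

theorem uT_inv (t : F) : (uT t)⁻¹ = uT (-t) := by
  rw [inv_eq_iff_mul_eq_one, uT_mul, add_neg_cancel, uT_zero]

theorem uT_ne_one {t : F} (ht : t ≠ 0) : uT t ≠ 1 := fun e => ht (by
  simpa [uT] using congrArg (fun A : SL(2, F) => A.1 0 1) e)

theorem dT_conj_uT (x : Fˣ) (t : F) : dT x * uT t = uT ((x : F) ^ 2 * t) * dT x := by
  rw [dT, uT, uT, mk2_mul, mk2_mul]
  refine mk2_congr (by ring) ?_ (by ring) (by ring)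
  linear_combination -((x : F) * t) * (Units.mul_inv x)

theorem dT_mul (x y : Fˣ) : dT x * dT y = dT (x * y) := by
  rw [dT, dT, dT, mk2_mul]
  exact mk2_congr (by simp) (by simp) (by simp) (by simp [mul_comm])

theorem dT_one : dT (1 : Fˣ) = 1 := by rw [one_eq_mk2]; exact mk2_congr rfl rfl rfl (by simp)

theorem sThree_pow : sThree F ^ 3 = 1 := by
  rw [pow_three, sThree, comp2, mk2_mul, mk2_mul, one_eq_mk2]
  exact mk2_congr (by ring) (by ring) (by ring) (by ring)

theorem sThree_ne_one : sThree F ≠ 1 := fun e => by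
  simpa [sThree, comp2] using congrArg (fun A : SL(2, F) => A.1 1 0) e

theorem iFour_sq : iFour F * iFour F = -1 := by
  rw [iFour, comp2, mk2_mul, one_eq_mk2, neg_mk2]
  exact mk2_congr (by ring) (by ring) (by ring) (by ring)

theorem uT_lT_uT : uT (1 : F) * lT (-1) * uT 1 = mk2 0 1 (-1) 0 (by ring) := by
  rw [uT, lT, mk2_mul, mk2_mul]
  exact mk2_congr (by ring) (by ring) (by ring) (by ring)

theorem uT_lT_pow_four :
    (uT (1 : F) * lT (-1) * uT 1) * (uT 1 * lT (-1) * uT 1) = -1 := by
  rw [uT_lT_uT, mk2_mul, one_eq_mk2, neg_mk2]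
  exact mk2_congr (by ring) (by ring) (by ring) (by ring)

theorem neg_one_ne_one (h2 : (2 : F) ≠ 0) : (-1 : SL(2, F)) ≠ 1 := fun e => by
  have h := congrArg (fun A : SL(2, F) => A.1 0 0) e
  simp only [Matrix.SpecialLinearGroup.coe_neg, Matrix.SpecialLinearGroup.coe_one, Matrix.neg_apply,
    Matrix.one_apply_eq] at h
  exact h2 (by linear_combination -h)

/-- Conjugacy is decided by the trace away from `± 2`. -/
theorem exists_conj_comp2 [Fintype F] (hF : ringChar F ≠ 2) (X : SL(2, F))
    (ht : (X.1 0 0 + X.1 1 1) ^ 2 ≠ 4) :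
    ∃ g : SL(2, F), g * comp2 (X.1 0 0 + X.1 1 1) * g⁻¹ = X := by
  have h2 : (2 : F) ≠ 0 := Ring.two_ne_zero hF
  set a := X.1 0 0 with ha
  set b := X.1 0 1 with hb
  set c := X.1 1 0 with hc
  set d := X.1 1 1 with hd
  have hdet : a * d - b * c = 1 := by
    have := X.2
    rwa [Matrix.det_fin_two] at this
  obtain ⟨x, y, hxy⟩ : ∃ x y : F, c * x ^ 2 + (d - a) * x * y - b * y ^ 2 = 1 := by
    by_cases hc0 : c = 0
    · have hda : d - a ≠ 0 := fun e => ht (by
        have : d = a := sub_eq_zero.1 e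
        rw [this, hc0] at hdet
        rw [this]
        linear_combination 4 * hdet)
      refine ⟨(1 + b) / (d - a), 1, ?_⟩
      rw [hc0, mul_assoc, mul_comm ((1 + b) / (d - a)), ← mul_assoc]
      field_simp
      ring
    · set γ : F := -((a + d) ^ 2 - 4) / (4 * c) with hγ
      have hγ0 : γ ≠ 0 := by
        rw [hγ]
        exact div_ne_zero (neg_ne_zero.2 (sub_ne_zero.2 ht))
          (mul_ne_zero (by
            rw [show (4 : F) = 2 * 2 by ring]
            exact mul_ne_zero h2 h2) hc0)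
      obtain ⟨X', Y', hXY⟩ := FiniteField.exists_root_sum_quadratic
        (f := Polynomial.C c * Polynomial.X ^ 2)
        (g := Polynomial.C γ * Polynomial.X ^ 2 - Polynomial.C 1)
        (Polynomial.degree_C_mul_X_pow 2 hc0)
        (by
          rw [Polynomial.degree_sub_eq_left_of_degree_lt]
          · exact Polynomial.degree_C_mul_X_pow 2 hγ0
          · rw [Polynomial.degree_C_mul_X_pow 2 hγ0]
            exact lt_of_le_of_lt Polynomial.degree_C_le (by norm_num))
        (FiniteField.odd_card_of_char_ne_two hF)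
      simp only [Polynomial.eval_mul, Polynomial.eval_C, Polynomial.eval_pow, Polynomial.eval_X,
        Polynomial.eval_sub] at hXY
      refine ⟨X' - (d - a) / (2 * c) * Y', Y', ?_⟩
      rw [hγ] at hXY
      have h4 : (4 : F) ≠ 0 := by
        rw [show (4 : F) = 2 * 2 by ring]
        exact mul_ne_zero h2 h2
      field_simp at hXY ⊢
      linear_combination hXY + 4 * hdet * Y' ^ 2
  refine ⟨mk2 x (a * x + b * y) y (c * x + d * y) (by linear_combination hxy), ?_⟩
  rw [mul_inv_eq_iff_eq_mul]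
  apply sl_ext <;> simp only [mul_entry, mk2_00, mk2_01, mk2_10, mk2_11, comp2, ← ha, ← hb, ← hc, ← hd]
  · ring
  · linear_combination x * hdet
  · ring
  · linear_combination y * hdet

end Cfsg.Agent.FixDim
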