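import Mathlib
import Cfsg.Agent.Lib.FixDim.SLTwo

/-!
# `SL₂(p)` away from its own characteristic

Where the central involution acts by `-1`, six conjugates of the element of order three have no
common kernel of `1 + s + s²`; where it acts trivially, a subgroup `A₄` gives a bound.
-/

set_option autoImplicit false

namespace Cfsg.Agent.FixDim

open Module LinearMap
open scoped MatrixGroups

variable {p : ℕ} [Fact p.Prime] {K : Type*} [Field K] {V : Type*} [AddCommGroup V] [Module K V]
  [FiniteDimensional K V]

/-- A vector fixed up to a fixed vector by an element of order prime to the characteristic. -/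
theorem fix_of_fix_diff {G : Type*} [Group G] {ρ : Representation K G V} {g : G} (hg : g ^ p = 1)
    (hp : (p : K) ≠ 0) {v : V} (h : ρ g (ρ g v - v) = ρ g v - v) : ρ g v = v := by
  set w := ρ g v - v with hw
  have hk : ∀ k : ℕ, ρ (g ^ k) v = v + (k : K) • w := by
    intro k
    induction k with
    | zero => simp
    | succ k ih =>
      rw [pow_succ', rho_mul_apply, ih, map_add, map_smul, h, Nat.cast_succ, add_smul, one_smul,
        show ρ g v = v + w by rw [hw]; abel]
      abel
  have h1 := hk p
  rw [hg, map_one, Module.End.one_apply, left_eq_add, smul_eq_zero] at h1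
  exact sub_eq_zero.1 (h1.resolve_left hp)

theorem uT_pow_p (t : ZMod p) : uT t ^ p = 1 := by
  rw [uT_pow, ZMod.natCast_self, zero_mul, uT_zero]

theorem lT_pow (t : ZMod p) (n : ℕ) : lT t ^ n = lT (n * t) := by
  induction n with
  | zero => rw [pow_zero, one_eq_mk2]; exact mk2_congr rfl rfl (by simp) rfl
  | succ n ih =>
    rw [pow_succ, ih, lT, lT, lT, mk2_mul]
    exact mk2_congr (by ring) (by ring) (by push_cast; ring) (by ring)

theorem lT_pow_p (t : ZMod p) : lT t ^ p = 1 := by
  rw [lT_pow, ZMod.natCast_self, zero_mul, one_eq_mk2]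
  exact mk2_congr rfl rfl rfl rfl

theorem two_ne_zero_zmod (hp : 5 ≤ p) : (2 : ZMod p) ≠ 0 := by
  rw [show (2 : ZMod p) = ((2 : ℕ) : ZMod p) by norm_num, Ne, ZMod.natCast_eq_zero_iff]
  intro h
  have := Nat.le_of_dvd (by norm_num) h
  omega

theorem natCast_ne_zero_zmod {n : ℕ} (h0 : 0 < n) (hn : n < p) : (n : ZMod p) ≠ 0 := by
  rw [Ne, ZMod.natCast_eq_zero_iff]
  intro h
  have := Nat.le_of_dvd h0 h
  omega

section Minus

variable (σ : Representation K SL(2, ZMod p) V)

/-- The kernel of `1 + s + s²` moved by `g`. -/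
def killSp (g : SL(2, ZMod p)) : Submodule K V :=
  LinearMap.ker ((1 + σ (sThree _) + σ (sThree _ * sThree _)) * σ g⁻¹)

theorem finrank_killSp (g : SL(2, ZMod p)) :
    finrank K V ≤ finrank K (killSp σ g) + fdim σ (sThree _) := by
  have h := ((1 + σ (sThree (ZMod p)) + σ (sThree _ * sThree _)) * σ g⁻¹).finrank_range_add_finrank_ker
  have hr : range ((1 + σ (sThree (ZMod p)) + σ (sThree _ * sThree _)) * σ g⁻¹) ≤
      fixSp σ (sThree _) := by
    rintro _ ⟨v, rfl⟩
    rw [mem_fixSp]
    simp only [Module.End.mul_apply, LinearMap.add_apply, Module.End.one_apply, map_add,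
      ← rho_mul_apply]
    simp only [← mul_assoc]
    rw [show sThree (ZMod p) * sThree _ * sThree _ = 1 by rw [← pow_three', sThree_pow], one_mul]
    abel
  have := Submodule.finrank_mono hr
  unfold killSp fdim
  omega

theorem finrank_inf_ge {A B : Submodule K V} {a b : ℕ} (hA : finrank K V ≤ finrank K A + a)
    (hB : finrank K V ≤ finrank K B + b) :
    finrank K V ≤ finrank K (A ⊓ B : Submodule K V) + (a + b) := by
  have h := Submodule.finrank_sup_add_finrank_inf_eq A B
  have h' := Submodule.finrank_le (A ⊔ B)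
  omega

variable {σ}

/-- The identity along one edge. -/
theorem edge_std (hσ : ∀ v, σ (-1) v = -v) {w : V}
    (h1 : w + σ (sThree _) w + σ (sThree _ * sThree _) w = 0)
    (h2 : σ (uT (-1)) w + σ (sThree _) (σ (uT (-1)) w) +
      σ (sThree _ * sThree _) (σ (uT (-1)) w) = 0) :
    σ (uT 1) w + σ (uT (-1)) w =
      σ (mk2 0 1 (-1) 2 (by ring)) w + σ (mk2 2 (-1) 1 0 (by ring)) w := by
  have hneg : ∀ g v, σ (-g) v = -σ g v := fun g v => by
    rw [← neg_one_mul g, rho_mul_apply, hσ]
  have h1' := congrArg (σ (uT 1)) h1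
  rw [map_add, map_add, map_zero] at h1'
  simp only [← rho_mul_apply] at h1' h2
  have e1 : uT (1 : ZMod p) * sThree _ = -(sThree _ * sThree _ * uT (-1)) := by
    rw [uT, uT, sThree, comp2, mk2_mul, mk2_mul, mk2_mul, neg_mk2]
    exact mk2_congr (by ring) (by ring) (by ring) (by ring)
  have e2 : uT (1 : ZMod p) * (sThree _ * sThree _) = -(mk2 2 (-1) 1 0 (by ring)) := by
    rw [uT, sThree, comp2, mk2_mul, mk2_mul, neg_mk2]
    exact mk2_congr (by ring) (by ring) (by ring) (by ring)
  have e3 : sThree (ZMod p) * uT (-1) = -(mk2 0 1 (-1) 2 (by ring)) := by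
    rw [uT, sThree, comp2, mk2_mul, neg_mk2]
    exact mk2_congr (by ring) (by ring) (by ring) (by ring)
  rw [e1, e2, hneg, hneg] at h1'
  rw [e3, hneg] at h2
  linear_combination (norm := module) h1' + h2

/-- The identity along a conjugate edge. -/
theorem edge (hσ : ∀ v, σ (-1) v = -v) (g : SL(2, ZMod p)) {A A' B B' : SL(2, ZMod p)}
    (hA : g * uT 1 = A * g) (hA' : g * uT (-1) = A' * g)
    (hB : g * mk2 0 1 (-1) 2 (by ring) = B * g) (hB' : g * mk2 2 (-1) 1 0 (by ring) = B' * g)
    {v : V} (h1 : v ∈ killSp σ g) (h2 : v ∈ killSp σ (g * uT 1)) :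
    σ A v + σ A' v = σ B v + σ B' v := by
  rw [killSp, LinearMap.mem_ker] at h1 h2
  simp only [Module.End.mul_apply, LinearMap.add_apply, Module.End.one_apply, _root_.mul_inv_rev,
    uT_inv, rho_mul_apply] at h1 h2
  have h := edge_std hσ (w := σ g⁻¹ v) (by rw [rho_mul_apply]; exact h1)
    (by rw [rho_mul_apply]; exact h2)
  have h' := congrArg (σ g) h
  simp only [map_add, ← rho_mul_apply, ← mul_assoc, hA, hA', hB, hB', mul_inv_cancel_right] at h'
  exact h'

theorem half_add_half (hp : 5 ≤ p) : (2 : ZMod p)⁻¹ + (2 : ZMod p)⁻¹ = 1 := by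
  rw [← two_mul, mul_inv_cancel₀ (two_ne_zero_zmod hp)]

theorem fixed_uT_one {t : ZMod p} (ht : t ≠ 0) {v : V} (h : σ (uT t) v = v) :
    σ (uT 1) v = v := by
  have hv := fixSp_pow_le (ρ := σ) (uT t) (t⁻¹).val (mem_fixSp.2 h)
  rw [uT_pow, ZMod.natCast_zmod_val, inv_mul_cancel₀ ht] at hv
  exact mem_fixSp.1 hv

/-- Six conjugates kill everything where the central involution is `-1`. -/
theorem minus_bound (hσ : ∀ v, σ (-1) v = -v) (hp : 7 ≤ p) (hpK : (p : K) ≠ 0)
    (h2K : (2 : K) ≠ 0) : finrank K V ≤ 6 * fdim σ (sThree _) := by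
  set hf : ZMod p := (2 : ZMod p)⁻¹ with hhf
  have hh : 2 * hf = 1 := mul_inv_cancel₀ (two_ne_zero_zmod (by omega))
  set g1 : SL(2, ZMod p) := mk2 1 (-1) 0 1 (by ring) with hg1
  set g2 : SL(2, ZMod p) := mk2 0 (-1) 1 (-3 * hf) (by ring) with hg2
  set g3 : SL(2, ZMod p) := mk2 1 (-3) hf (-hf) (by linear_combination hh) with hg3
  set W := ((((killSp σ g1 ⊓ killSp σ (g1 * uT 1)) ⊓ killSp σ g2) ⊓ killSp σ (g2 * uT 1)) ⊓
    killSp σ g3) ⊓ killSp σ (g3 * uT 1) with hWdef
  set C : SL(2, ZMod p) := mk2 hf 1 (-hf * hf) (3 * hf)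
    (by linear_combination (2 * hf + 1) * hh) with hC
  set C' : SL(2, ZMod p) := mk2 (3 * hf) (-1) (hf * hf) hf
    (by linear_combination (2 * hf + 1) * hh) with hC'
  have hW : W = ⊥ := by
    rw [Submodule.eq_bot_iff]
    intro v hv
    obtain ⟨⟨⟨⟨⟨k1, k2⟩, k3⟩, k4⟩, k5⟩, k6⟩ := hv
    have E1 := edge hσ g1 (A := uT 1) (A' := uT (-1)) (B := lT (-1)) (B' := lT 1)
      (by simp only [hg1, uT, mk2_mul]; exact mk2_congr (by ring) (by ring) (by ring) (by ring))
      (by simp only [hg1, uT, mk2_mul] <;> first | rfl | exact mk2_congr (by ring) (by ring) (by ring) (by ring))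
      (by simp only [hg1, lT, mk2_mul]; exact mk2_congr (by ring) (by ring) (by ring) (by ring))
      (by simp only [hg1, lT, mk2_mul]; exact mk2_congr (by ring) (by ring) (by ring) (by ring))
      k1 k2
    have E2 := edge hσ g2 (A := lT (-1)) (A' := lT 1) (B := C) (B' := C')
      (by simp only [hg2, uT, lT, mk2_mul]
          exact mk2_congr (by ring) (by ring) (by ring) (by ring))
      (by simp only [hg2, uT, lT, mk2_mul]
          exact mk2_congr (by ring) (by ring) (by ring) (by ring))
      (by simp only [hg2, hC, mk2_mul]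
          exact mk2_congr (by ring) (by linear_combination (2 : ZMod p) * hh)
            (by ring) (by linear_combination (4 * hf - 1) * hh))
      (by simp only [hg2, hC', mk2_mul]
          exact mk2_congr (by ring) (by ring)
            (by linear_combination (-2 : ZMod p) * hh) (by linear_combination (2 * hf + 1) * hh))
      k3 k4
    have E3 := edge hσ g3 (A := C) (A' := C') (B := uT 4) (B' := uT (-4))
      (by simp only [hg3, hC, uT, mk2_mul]
          exact mk2_congr (by linear_combination (-1 : ZMod p) * hh)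
            (by linear_combination (2 : ZMod p) * hh) (by linear_combination (-hf) * hh) (by ring))
      (by simp only [hg3, hC', uT, mk2_mul]
          exact mk2_congr (by linear_combination (-1 : ZMod p) * hh)
            (by linear_combination (4 : ZMod p) * hh) (by linear_combination (-hf) * hh)
            (by linear_combination (2 * hf) * hh))
      (by simp only [hg3, uT, mk2_mul]
          exact mk2_congr (by linear_combination (-2 : ZMod p) * hh)
            (by linear_combination (2 : ZMod p) * hh) (by ring) (by ring))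
      (by simp only [hg3, uT, mk2_mul]
          exact mk2_congr (by linear_combination (2 : ZMod p) * hh)
            (by linear_combination (-2 : ZMod p) * hh) (by ring) (by ring))
      k5 k6
    have E : σ (uT 4) v + σ (uT (-4)) v = σ (uT 1) v + σ (uT (-1)) v := by rw [E1, E2, E3]
    have hfix : σ (uT 1) v = v := by
      have h4 := congrArg (σ (uT 4)) E
      simp only [map_add, ← rho_mul_apply, uT_mul, add_neg_cancel, uT_zero, map_one,
        Module.End.one_apply] at h4
      norm_num at h4
      have h5 : σ (uT 5) (σ (uT 3) v - v) = σ (uT 3) v - v := by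
        rw [map_sub, ← rho_mul_apply, uT_mul]
        norm_num
        linear_combination (norm := module) h4
      have h5' := fixed_uT_one (by exact_mod_cast natCast_ne_zero_zmod (p := p) (n := 5) (by omega) (by omega)) h5
      have h3 : σ (uT 3) v = v := by
        refine fix_of_fix_diff (p := p) (uT_pow_p 3) hpK ?_
        have := fixSp_pow_le (ρ := σ) (uT (1 : ZMod p)) 3 (mem_fixSp.2 h5')
        rw [uT_pow] at this
        norm_num at this
        exact mem_fixSp.1 this
      exact fixed_uT_one (by exact_mod_cast natCast_ne_zero_zmod (p := p) (n := 3) (by omega) (by omega)) h3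
    have hfix' : σ (uT (-1)) v = v := by
      conv_lhs => rw [← hfix]
      rw [← rho_mul_apply, uT_mul, neg_add_cancel, uT_zero, map_one, Module.End.one_apply]
    have hl : σ (lT (-1)) v = v := by
      refine fix_of_fix_diff (p := p) (lT_pow_p (-1)) hpK ?_
      rw [hfix, hfix'] at E1
      have h6 := congrArg (σ (lT (-1))) E1
      rw [map_add, map_add, ← rho_mul_apply (lT (-1)) (lT 1)] at h6
      rw [show lT (-1) * lT (1 : ZMod p) = 1 by
        rw [lT, lT, mk2_mul, one_eq_mk2]
        exact mk2_congr (by ring) (by ring) (by ring) (by ring), map_one, Module.End.one_apply] at h6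
      rw [map_sub]
      linear_combination (norm := module) -h6
    have hz : σ (-1) v = v := by
      rw [← uT_lT_pow_four]
      simp only [rho_mul_apply, hfix, hl]
    rw [hσ] at hz
    have : (2 : K) • v = 0 := by
      linear_combination (norm := module) -hz
    exact (smul_eq_zero.1 this).resolve_left h2K
  have h := finrank_inf_ge (finrank_inf_ge (finrank_inf_ge (finrank_inf_ge
    (finrank_inf_ge (finrank_killSp σ g1) (finrank_killSp σ (g1 * uT 1))) (finrank_killSp σ g2))
    (finrank_killSp σ (g2 * uT 1))) (finrank_killSp σ g3)) (finrank_killSp σ (g3 * uT 1))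
  rw [← hWdef, hW, finrank_bot] at h
  omega

end Minus

section Plus

variable {σ : Representation K SL(2, ZMod p) V}

theorem fdim_of_trace_zero (hp : 5 ≤ p) {X : SL(2, ZMod p)} (h : X.1 0 0 + X.1 1 1 = 0) :
    fdim σ X = fdim σ (iFour _) := by
  have h2 := two_ne_zero_zmod hp
  obtain ⟨g, hg⟩ := exists_conj_comp2 (by rw [ZMod.ringChar_zmod_n]; omega) X (by
    rw [h, zero_pow two_ne_zero, show (4 : ZMod p) = 2 * 2 by ring]
    exact (mul_ne_zero h2 h2).symm)
  rw [← hg, fdim_conj, h]
  rfl

/-- The bound where the central involution acts trivially. -/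
theorem plus_bound (hσ : ∀ v, σ (-1) v = v) (hp : 5 ≤ p) (h2K : (2 : K) ≠ 0) :
    finrank K V ≤ 5 * fdim σ (sThree _) := by
  have h2 := two_ne_zero_zmod hp
  have h3 : (3 : ZMod p) ≠ 0 := by
    exact_mod_cast natCast_ne_zero_zmod (p := p) (n := 3) (by omega) (by omega)
  have hchar : ringChar (ZMod p) ≠ 2 := by rw [ZMod.ringChar_zmod_n]; omega
  set hf : ZMod p := (2 : ZMod p)⁻¹ with hhf
  have hh : 2 * hf = 1 := mul_inv_cancel₀ h2
  have hneg : ∀ g v, σ (-g) v = σ g v := fun g v => by
    rw [← neg_one_mul g, rho_mul_apply, hσ]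
  obtain ⟨x, y, hxy⟩ := ZMod.sq_add_sq p (-1 : ZMod p)
  set ii := iFour (ZMod p) with hii
  set jj : SL(2, ZMod p) := mk2 x y y (-x) (by linear_combination -hxy) with hjj
  set tt : SL(2, ZMod p) := mk2 (-(1 + x - y) * hf) (-(-1 + x + y) * hf) (-(1 + x + y) * hf)
    (-(1 - x + y) * hf) (by linear_combination (2 * hf + 1) * hh - 2 * hf ^ 2 * hxy) with htt
  have r1 : tt * ii = jj * tt := by
    simp only [htt, hii, iFour, comp2, hjj, mk2_mul]
    exact mk2_congr (by linear_combination hf * hxy) (by linear_combination hf * hxy)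
      (by linear_combination -hf * hxy) (by linear_combination hf * hxy)
  have r2 : tt * jj = ii * jj * tt := by
    simp only [htt, hii, iFour, comp2, hjj, mk2_mul]
    exact mk2_congr (by linear_combination (0 : ZMod p) * hxy)
      (by linear_combination (0 : ZMod p) * hxy) (by linear_combination (0 : ZMod p) * hxy)
      (by linear_combination (0 : ZMod p) * hxy)
  obtain ⟨g, hg⟩ : ∃ g, g * sThree _ * g⁻¹ = tt := by
    have e : tt.1 0 0 + tt.1 1 1 = -1 := by
      simp only [htt, mk2_00, mk2_11]
      linear_combination -hh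
    obtain ⟨g, hg⟩ := exists_conj_comp2 hchar tt (by
      rw [e]
      intro e'
      exact h3 (by linear_combination -e'))
    exact ⟨g, by rw [sThree, ← e, hg]⟩
  have hc : fdim σ tt = fdim σ (sThree _) := by rw [← hg, fdim_conj]
  -- operators
  set I := σ ii with hI
  set J := σ jj with hJ
  set T := σ tt with hT
  have hII : ∀ v, I (I v) = v := fun v => by
    rw [hI, ← rho_mul_apply, hii, iFour_sq, hσ]
  have hJJ : ∀ v, J (J v) = v := fun v => by
    rw [hJ, ← rho_mul_apply, show jj * jj = -1 by
      simp only [hjj, mk2_mul, one_eq_mk2, neg_mk2]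
      exact mk2_congr (by linear_combination hxy) (by ring) (by ring) (by linear_combination hxy), hσ]
  have hIJ : ∀ v, I (J v) = J (I v) := fun v => by
    rw [hI, hJ, ← rho_mul_apply, ← rho_mul_apply, show ii * jj = -(jj * ii) by
      simp only [hii, iFour, comp2, hjj, mk2_mul, neg_mk2]
      exact mk2_congr (by ring) (by ring) (by ring) (by ring), hneg]
  have hTI : ∀ v, J (T v) = T (I v) := fun v => by
    rw [hT, hI, hJ, ← rho_mul_apply, ← rho_mul_apply, r1]
  have hTJ : ∀ v, I (J (T v)) = T (J v) := fun v => by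
    rw [hT, hI, hJ, ← rho_mul_apply, ← rho_mul_apply, ← rho_mul_apply, r2]
  set Mb : Submodule K V := ker (I + 1) ⊓ ker (J - 1) with hMb
  set Mc : Submodule K V := ker (I + 1) ⊓ ker (J + 1) with hMc
  have hantifix : ∀ v, v ∈ ker (I + 1) ↔ I v = -v := fun v => by
    rw [LinearMap.mem_ker, LinearMap.add_apply, Module.End.one_apply, add_eq_zero_iff_eq_neg]
  have hTMb : ∀ v ∈ Mb, T v ∈ Mc := fun v hv => by
    obtain ⟨a, b⟩ := hv
    rw [SetLike.mem_coe, hantifix] at a
    rw [SetLike.mem_coe, LinearMap.mem_ker, LinearMap.sub_apply, Module.End.one_apply, sub_eq_zero] at b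
    have hj : J (T v) = -T v := by rw [hTI, a, map_neg]
    refine ⟨?_, ?_⟩
    · rw [SetLike.mem_coe, hantifix, ← neg_inj, neg_neg]
      have := hTJ v
      rw [b, hj, map_neg] at this
      exact this
    · rw [SetLike.mem_coe, LinearMap.mem_ker, LinearMap.add_apply, Module.End.one_apply, hj,
        neg_add_cancel]
  have hMcle : finrank K Mc ≤ finrank K Mb := by
    have hsub : Mc ≤ Mb.map T := by
      rintro w ⟨a, b⟩
      rw [SetLike.mem_coe, hantifix] at a
      rw [SetLike.mem_coe, LinearMap.mem_ker, LinearMap.add_apply, Module.End.one_apply,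
        add_eq_zero_iff_eq_neg] at b
      obtain ⟨v, rfl⟩ : ∃ v, T v = w := ⟨σ tt⁻¹ w, rho_self_inv tt w⟩
      refine ⟨v, ⟨?_, ?_⟩, rfl⟩
      · rw [SetLike.mem_coe, hantifix]
        exact rho_injective (ρ := σ) tt (show T (I v) = T (-v) by rw [← hTI, b, map_neg])
      · rw [SetLike.mem_coe, LinearMap.mem_ker, LinearMap.sub_apply, Module.End.one_apply, sub_eq_zero]
        exact rho_injective (ρ := σ) tt (show T (J v) = T v by rw [← hTJ, b, map_neg, a, neg_neg])
    exact (Submodule.finrank_mono hsub).trans (Submodule.finrank_map_le T Mb)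
  have hMbc : finrank K Mb ≤ fdim σ tt := by
    have ht3 : tt * (tt * tt) = 1 := by
      rw [← pow_three, ← hg, conj_pow, sThree_pow, mul_one, mul_inv_cancel]
    set N : Module.End K V := 1 + T + T * T with hN
    have hNfix : ∀ v, N v ∈ fixSp σ tt := fun v => by
      rw [mem_fixSp]
      have : T (T (T v)) = v := by
        rw [hT, ← rho_mul_apply, ← rho_mul_apply, mul_assoc, ht3, map_one, Module.End.one_apply]
      show T (N v) = N v
      simp only [hN, LinearMap.add_apply, Module.End.one_apply, Module.End.mul_apply, map_add, this]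
      abel
    refine LinearMap.finrank_le_finrank_of_injective (f := (N.domRestrict Mb).codRestrict _
      fun v => hNfix v) ?_
    rw [← LinearMap.ker_eq_bot, LinearMap.ker_eq_bot']
    rintro ⟨v, hv⟩ h0
    have h0' : v + T v + T (T v) = 0 := by
      simpa [hN] using congrArg Subtype.val h0
    have hc' := hTMb v hv
    obtain ⟨a, b⟩ := hv
    obtain ⟨a', b'⟩ := hc'
    rw [SetLike.mem_coe, hantifix] at a a'
    rw [SetLike.mem_coe, LinearMap.mem_ker, LinearMap.sub_apply, Module.End.one_apply, sub_eq_zero] at b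
    rw [SetLike.mem_coe, LinearMap.mem_ker, LinearMap.add_apply, Module.End.one_apply,
      add_eq_zero_iff_eq_neg] at b'
    have hTT : I (T (T v)) = T (T v) := by
      have h := hTJ (T v)
      rw [hTI, a', map_neg, map_neg, b', map_neg] at h
      exact neg_inj.1 h
    have e := congrArg I h0'
    rw [map_add, map_add, map_zero, a, a', hTT] at e
    have e2 : (2 : K) • T (T v) = 0 := by linear_combination (norm := module) e + h0'
    have e3 : T (T v) = 0 := (smul_eq_zero.1 e2).resolve_left h2K
    rw [e3, add_zero] at h0'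
    have e4 := congrArg J h0'
    rw [map_add, map_zero, b, b'] at e4
    have e5 : (2 : K) • v = 0 := by linear_combination (norm := module) e4 + h0'
    exact Subtype.ext ((smul_eq_zero.1 e5).resolve_left h2K)
  -- the fixed space of `ii`
  have hq : finrank K V ≤ fdim σ ii + 2 * fdim σ tt := by
    have hr : range (I - 1) ≤ Mb ⊔ Mc := by
      rintro _ ⟨v, rfl⟩
      set w := (I - 1 : Module.End K V) v with hw
      have hIw : I w = -w := by
        simp only [hw, LinearMap.sub_apply, Module.End.one_apply, map_sub, hII]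
        abel
      have hsplit : w = (2 : K)⁻¹ • (w + J w) + (2 : K)⁻¹ • (w - J w) := by
        rw [← smul_add, show w + J w + (w - J w) = (2 : K) • w by module, smul_smul,
          inv_mul_cancel₀ h2K, one_smul]
      rw [hsplit]
      refine Submodule.add_mem _ (Submodule.mem_sup_left (Submodule.smul_mem _ _ ⟨?_, ?_⟩))
        (Submodule.mem_sup_right (Submodule.smul_mem _ _ ⟨?_, ?_⟩))
      · rw [SetLike.mem_coe, hantifix, map_add, hIJ, hIw, map_neg]; abel
      · rw [SetLike.mem_coe, LinearMap.mem_ker, LinearMap.sub_apply, Module.End.one_apply, map_add,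
          hJJ]
        abel
      · rw [SetLike.mem_coe, hantifix, map_sub, hIJ, hIw, map_neg]; abel
      · rw [SetLike.mem_coe, LinearMap.mem_ker, LinearMap.add_apply, Module.End.one_apply, map_sub,
          hJJ]
        abel
    have h := (I - 1).finrank_range_add_finrank_ker
    have hker : finrank K (ker (I - 1)) = fdim σ ii := rfl
    have h' := (Submodule.finrank_mono hr).trans (finrank_sup_le Mb Mc)
    omega
  have hw : 2 * fdim σ ii ≤ finrank K V + fdim σ (sThree _) := by
    obtain ⟨X', Y', hXY⟩ := FiniteField.exists_root_sum_quadratic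
      (f := (Polynomial.X ^ 2 : Polynomial (ZMod p)))
      (g := Polynomial.C 3 * Polynomial.X ^ 2 + Polynomial.C 4)
      (Polynomial.degree_X_pow 2)
      (by
        rw [Polynomial.degree_add_eq_left_of_degree_lt]
        · exact Polynomial.degree_C_mul_X_pow 2 h3
        · rw [Polynomial.degree_C_mul_X_pow 2 h3]
          exact lt_of_le_of_lt Polynomial.degree_C_le (by norm_num))
      (FiniteField.odd_card_of_char_ne_two hchar)
    simp only [Polynomial.eval_mul, Polynomial.eval_C, Polynomial.eval_pow, Polynomial.eval_X,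
      Polynomial.eval_add] at hXY
    set a := (X' - Y') * hf with ha
    set ww : SL(2, ZMod p) := mk2 a Y' (a + Y') (-a)
      (by rw [ha]; linear_combination (-hf ^ 2) * hXY +
        (X' * Y' * hf + Y' ^ 2 * (hf + 1) + 2 * hf + 1) * hh) with hww
    have e1 : fdim σ ww = fdim σ ii := fdim_of_trace_zero hp (by simp [hww])
    have e2 : fdim σ (ww * sThree _) = fdim σ ii := fdim_of_trace_zero hp (by
      simp only [hww, sThree, comp2, mk2_mul, mk2_00, mk2_11]
      ring)
    have hle : fixSp σ ww ⊓ fixSp σ (ww * sThree _) ≤ fixSp σ (sThree _) := by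
      rintro v ⟨a1, a2⟩
      rw [SetLike.mem_coe, mem_fixSp] at a1 a2
      rw [mem_fixSp]
      rw [rho_mul_apply] at a2
      exact rho_injective ww (a2.trans a1.symm)
    have h := Submodule.finrank_sup_add_finrank_inf_eq (fixSp σ ww) (fixSp σ (ww * sThree _))
    have h' := Submodule.finrank_le (fixSp σ ww ⊔ fixSp σ (ww * sThree _))
    have h'' := Submodule.finrank_mono hle
    simp only [fdim] at e1 e2 ⊢
    omega
  omega

end Plus

/-- Restriction to an invariant submodule. -/
noncomputable def subRep {G : Type*} [Group G] (ρ : Representation K G V) (W : Submodule K V)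
    (h : ∀ g, ∀ v ∈ W, ρ g v ∈ W) : Representation K G W where
  toFun g := (ρ g).restrict (h g)
  map_one' := by ext v; simp
  map_mul' a b := by ext v; simp

theorem fdim_subRep_add_le {G : Type*} [Group G] (ρ : Representation K G V) (A B : Submodule K V)
    (hA : ∀ g, ∀ v ∈ A, ρ g v ∈ A) (hB : ∀ g, ∀ v ∈ B, ρ g v ∈ B) (hd : Disjoint A B) (g : G) :
    fdim (subRep ρ A hA) g + fdim (subRep ρ B hB) g ≤ fdim ρ g := by
  have e : ∀ (W : Submodule K V) (hW : ∀ g, ∀ v ∈ W, ρ g v ∈ W),
      fdim (subRep ρ W hW) g = finrank K (W ⊓ fixSp ρ g : Submodule K V) := fun W hW => by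
    rw [fdim, ← Submodule.finrank_map_subtype_eq]
    congr 2
    all_goals
      ext v
      simp only [Submodule.mem_map, Submodule.subtype_apply, Submodule.mem_inf]
      constructor
      · rintro ⟨⟨w, hw⟩, hfix, rfl⟩
        rw [mem_fixSp] at hfix ⊢
        exact ⟨hw, congrArg Subtype.val hfix⟩
      · rintro ⟨hw, hfix⟩
        refine ⟨⟨v, hw⟩, ?_, rfl⟩
        rw [mem_fixSp] at hfix ⊢
        exact Subtype.ext hfix
  rw [e, e]
  have h := Submodule.finrank_sup_add_finrank_inf_eq (A ⊓ fixSp ρ g) (B ⊓ fixSp ρ g)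
  rw [(hd.mono inf_le_left inf_le_left).eq_bot, finrank_bot, add_zero] at h
  rw [← h]
  exact Submodule.finrank_mono (sup_le inf_le_right inf_le_right)

/-- No tight representation of `SL₂(p)` away from the characteristics two, three and `p`. -/
theorem not_tight_nondefining (hp : 7 ≤ p) (ρ : Representation K SL(2, ZMod p) V) (h2 : (2 : K) ≠ 0)
    (hpK : (p : K) ≠ 0) : ¬ Tight ρ := by
  intro h
  have hcen : ∀ g : SL(2, ZMod p), ∀ v, ρ (-1) (ρ g v) = ρ g (ρ (-1) v) := fun g v => by
    rw [← rho_mul_apply, ← rho_mul_apply, neg_one_mul, mul_neg_one]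
  set A := ker (ρ (-1) - 1) with hA
  set B := ker (ρ (-1) + 1) with hB
  have hA' : ∀ g, ∀ v ∈ A, ρ g v ∈ A := fun g v hv => by
    simp only [hA, LinearMap.mem_ker, LinearMap.sub_apply, Module.End.one_apply] at hv ⊢
    rw [hcen, ← map_sub, hv, map_zero]
  have hB' : ∀ g, ∀ v ∈ B, ρ g v ∈ B := fun g v hv => by
    simp only [hB, LinearMap.mem_ker, LinearMap.add_apply, Module.End.one_apply] at hv ⊢
    rw [hcen, ← map_add, hv, map_zero]
  have hzz : ∀ v, ρ (-1) (ρ (-1) v) = v := fun v => by
    rw [← rho_mul_apply, neg_one_mul, neg_neg, map_one, Module.End.one_apply]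
  have hd : Disjoint A B := Submodule.disjoint_def.2 fun v hv hv' => by
    simp only [hA, hB, LinearMap.mem_ker, LinearMap.sub_apply, LinearMap.add_apply,
      Module.End.one_apply] at hv hv'
    have : (2 : K) • v = 0 := by linear_combination (norm := module) hv' - hv
    exact (smul_eq_zero.1 this).resolve_left h2
  have htop : (⊤ : Submodule K V) ≤ A ⊔ B := fun v _ => by
    rw [show v = (2 : K)⁻¹ • (v + ρ (-1) v) + (2 : K)⁻¹ • (v - ρ (-1) v) by
      rw [← smul_add, show v + ρ (-1) v + (v - ρ (-1) v) = (2 : K) • v by module, smul_smul,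
        inv_mul_cancel₀ h2, one_smul]]
    refine Submodule.add_mem _ (Submodule.mem_sup_left (Submodule.smul_mem _ _ ?_))
      (Submodule.mem_sup_right (Submodule.smul_mem _ _ ?_))
    · simp only [hA, LinearMap.mem_ker, LinearMap.sub_apply, Module.End.one_apply, map_add, hzz]
      abel
    · simp only [hB, LinearMap.mem_ker, LinearMap.add_apply, Module.End.one_apply, map_sub, hzz]
      abel
  have e1 := plus_bound (σ := subRep ρ A hA') (fun v => Subtype.ext (by
    have hv := LinearMap.mem_ker.1 v.2
    rw [LinearMap.sub_apply, Module.End.one_apply, sub_eq_zero] at hv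
    exact hv)) (by omega) h2
  have e2 := minus_bound (σ := subRep ρ B hB') (fun v => Subtype.ext (by
    have hv := LinearMap.mem_ker.1 v.2
    rw [LinearMap.add_apply, Module.End.one_apply, add_eq_zero_iff_eq_neg] at hv
    exact hv)) hp hpK h2
  have e3 := fdim_subRep_add_le ρ A B hA' hB' hd (sThree (ZMod p))
  have e4 := (Submodule.finrank_mono htop).trans (finrank_sup_le A B)
  rw [finrank_top] at e4
  have e5 := h (sThree (ZMod p)) sThree_ne_one
  omega

end Cfsg.Agent.FixDim
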