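import Mathlib
import Cfsg.Agent.Lib.FixDim.NonDefining

/-!
# Weights and the raising element in the group algebra of `SL₂(p)` in characteristic `p`
-/

set_option autoImplicit false

namespace Cfsg.Agent.FixDim

open Module LinearMap Finset
open scoped MatrixGroups

section General

variable {K : Type*} [Field K] {V W : Type*} [AddCommGroup V] [Module K V] [AddCommGroup W]
  [Module K W] {G : Type*} [Group G]

/-- The action of an element of the group algebra. -/
noncomputable def act (ρ : Representation K G V) (x : MonoidAlgebra K G) : Module.End K V :=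
  ρ.asAlgebraHom x

/-- The rank of an element of the group algebra. -/
noncomputable def rk (ρ : Representation K G V) (x : MonoidAlgebra K G) : ℕ :=
  finrank K (range (act ρ x))

theorem act_single (ρ : Representation K G V) (g : G) (c : K) :
    act ρ (MonoidAlgebra.single g c) = c • ρ g := by
  rw [act, Representation.asAlgebraHom_single]

theorem act_mul (ρ : Representation K G V) (x y : MonoidAlgebra K G) :
    act ρ (x * y) = act ρ x * act ρ y := map_mul _ _ _

theorem act_pow (ρ : Representation K G V) (x : MonoidAlgebra K G) (n : ℕ) :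
    act ρ (x ^ n) = act ρ x ^ n := map_pow _ _ _

/-- Equivariant maps commute with the group algebra. -/
theorem act_intertwine {ρ : Representation K G V} {σ : Representation K G W} (L : V →ₗ[K] W)
    (hL : ∀ g v, L (ρ g v) = σ g (L v)) (x : MonoidAlgebra K G) (v : V) :
    L (act ρ x v) = act σ x (L v) := by
  induction x using MonoidAlgebra.induction_on with
  | of g => simp [act, hL]
  | add f g hf hg => simp only [act, map_add, LinearMap.add_apply] at *; rw [hf, hg]
  | smul r f hf => simp only [act, map_smul, LinearMap.smul_apply] at *; rw [hf]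

theorem rk_eq_map {ρ : Representation K G V} {σ : Representation K G W} (L : V →ₗ[K] W)
    (hL : ∀ g v, L (ρ g v) = σ g (L v)) (hinj : Function.Injective L) (x : MonoidAlgebra K G) :
    rk ρ x = finrank K ((range L).map (act σ x) : Submodule K W) := by
  rw [rk, show (range L).map (act σ x) = (range (act ρ x)).map L by
    ext w
    constructor
    · rintro ⟨_, ⟨v, rfl⟩, rfl⟩
      exact ⟨act ρ x v, ⟨v, rfl⟩, act_intertwine L hL x v⟩
    · rintro ⟨_, ⟨v, rfl⟩, rfl⟩
      exact ⟨L v, ⟨v, rfl⟩, (act_intertwine L hL x v).symm⟩]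
  exact (Submodule.equivMapOfInjective L hinj _).finrank_eq

/-- The quotient representation. -/
noncomputable def quotRep (ρ : Representation K G V) (S : Submodule K V)
    (h : ∀ g, ∀ v ∈ S, ρ g v ∈ S) : Representation K G (V ⧸ S) where
  toFun g := S.mapQ S (ρ g) (fun v hv => h g v hv)
  map_one' := by ext v; simp
  map_mul' a b := by ext v; simp

/-- Ranks add up at least along a submodule. -/
theorem rk_sub_add_quot_le [FiniteDimensional K V] (ρ : Representation K G V) (S : Submodule K V)
    (h : ∀ g, ∀ v ∈ S, ρ g v ∈ S) (x : MonoidAlgebra K G) :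
    rk (subRep ρ S h) x + rk (quotRep ρ S h) x ≤ rk ρ x := by
  have hi := act_intertwine (ρ := subRep ρ S h) (σ := ρ) S.subtype (fun g v => rfl) x
  have hq := act_intertwine (ρ := ρ) (σ := quotRep ρ S h) S.mkQ (fun g v => rfl) x
  set R := range (act ρ x)
  have h1 : range (act (quotRep ρ S h) x) ≤ range (S.mkQ.domRestrict R) := by
    rintro _ ⟨w, rfl⟩
    obtain ⟨v, rfl⟩ := Submodule.mkQ_surjective S w
    exact ⟨⟨act ρ x v, ⟨v, rfl⟩⟩, hq v⟩
  have h2 : (range (act (subRep ρ S h) x)).map S.subtype ≤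
      (ker (S.mkQ.domRestrict R)).map R.subtype := by
    rintro _ ⟨_, ⟨v, rfl⟩, rfl⟩
    refine ⟨⟨_, ⟨S.subtype v, (hi v).symm⟩⟩, ?_, rfl⟩
    simp
  have h3 := (S.mkQ.domRestrict R).finrank_range_add_finrank_ker
  have h4 := Submodule.finrank_mono h1
  have h5 := Submodule.finrank_mono h2
  rw [Submodule.finrank_map_subtype_eq, Submodule.finrank_map_subtype_eq] at h5
  show finrank K _ + finrank K _ ≤ finrank K R
  omega

theorem rk_idem [FiniteDimensional K V] (ρ : Representation K G V) {x : MonoidAlgebra K G}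
    (hx : x * x = x) : rk ρ x + rk ρ (1 - x) = finrank K V := by
  have e : ker (act ρ x) = range (act ρ (1 - x)) := by
    ext v
    rw [LinearMap.mem_ker]
    constructor
    · intro hv
      exact ⟨v, by simp [act, map_sub] at hv ⊢; simp [hv]⟩
    · rintro ⟨w, rfl⟩
      rw [← Module.End.mul_apply, ← act_mul, mul_sub, mul_one, hx, sub_self]
      simp [act]
  rw [rk, rk, ← e, (act ρ x).finrank_range_add_finrank_ker]

theorem rk_idem_eq [FiniteDimensional K V] (ρ : Representation K G V) (S : Submodule K V)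
    (h : ∀ g, ∀ v ∈ S, ρ g v ∈ S) {x : MonoidAlgebra K G} (hx : x * x = x) :
    rk (subRep ρ S h) x + rk (quotRep ρ S h) x = rk ρ x := by
  have h1 := rk_sub_add_quot_le ρ S h x
  have h2 := rk_sub_add_quot_le ρ S h (1 - x)
  have h3 := rk_idem ρ hx
  have h4 := rk_idem (subRep ρ S h) hx
  have h5 := rk_idem (quotRep ρ S h) hx
  have h6 := S.finrank_quotient_add_finrank
  omega

theorem finrank_eq_map_add_inf [FiniteDimensional K V] (T : Module.End K V) (A : Submodule K V) :
    finrank K A = finrank K (A.map T : Submodule K V) + finrank K (A ⊓ ker T : Submodule K V) := by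
  have h := (T.domRestrict A).finrank_range_add_finrank_ker
  have e1 : range (T.domRestrict A) = A.map T := by
    ext w; simp
  have e2 : (ker (T.domRestrict A)).map A.subtype = A ⊓ ker T := by
    ext w
    simp [and_comm]
  rw [e1, ← Submodule.finrank_map_subtype_eq A, e2] at h
  omega

end General

variable {p : ℕ} [Fact p.Prime] {K : Type*} [Field K] [CharP K p]
variable {V : Type*} [AddCommGroup V] [Module K V]

/-- The prime field inside `K`. -/
noncomputable def emb (K : Type*) [Field K] [CharP K p] : ZMod p →+* K :=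
  ZMod.castHom (dvd_refl p) K

local notation "ι" => emb (p := p) K

/-- Sums of powers over the units. -/
theorem sum_units_pow (i : ℕ) :
    ∑ x : (ZMod p)ˣ, ι (x : ZMod p) ^ i = if p - 1 ∣ i then -1 else 0 := by
  have h := congrArg ι (FiniteField.sum_pow_units (ZMod p) i)
  rw [map_sum, apply_ite ι, map_neg, map_one, map_zero, ZMod.card] at h
  rw [← h]
  exact Finset.sum_congr rfl fun x _ => (map_pow _ _ _).symm

theorem inv_pow_eq (x : (ZMod p)ˣ) (k : ℕ) :
    ι ((x⁻¹ : (ZMod p)ˣ) : ZMod p) ^ k = ι (x : ZMod p) ^ ((p - 2) * k) := by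
  have h2 := (Fact.out : p.Prime).two_le
  rw [pow_mul, ← map_pow ι (x : ZMod p), ← Units.val_pow_eq_pow_val]
  congr 3
  rw [inv_eq_iff_mul_eq_one, ← pow_succ', show p - 2 + 1 = p - 1 by omega,
    ZMod.units_pow_card_sub_one_eq_one]

theorem sum_units_pow_inv_pow (a b : ℕ) :
    ∑ x : (ZMod p)ˣ, ι (x : ZMod p) ^ a * ι ((x⁻¹ : (ZMod p)ˣ) : ZMod p) ^ b =
      if a ≡ b [MOD p - 1] then -1 else 0 := by
  simp only [inv_pow_eq, ← pow_add, sum_units_pow]
  have h2 := (Fact.out : p.Prime).two_le
  have e : (p - 1 ∣ a + (p - 2) * b) ↔ a ≡ b [MOD p - 1] := by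
    rw [← Nat.modEq_zero_iff_dvd]
    have hb : b + (p - 2) * b ≡ 0 [MOD p - 1] := by
      rw [Nat.modEq_zero_iff_dvd]
      exact ⟨b, by rw [show p - 1 = 1 + (p - 2) by omega]; ring⟩
    exact ⟨fun h => Nat.ModEq.add_right_cancel' _ (h.trans hb.symm),
      fun h => (h.add_right _).trans hb⟩
  simp only [e]

variable (K)

/-- The idempotent of weight `μ`. -/
noncomputable def wel (μ : ℕ) : MonoidAlgebra K SL(2, ZMod p) :=
  -∑ x : (ZMod p)ˣ, MonoidAlgebra.single (dT x) (ι ((x⁻¹ : (ZMod p)ˣ) : ZMod p) ^ μ)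

/-- The raising element. -/
noncomputable def eel : MonoidAlgebra K SL(2, ZMod p) :=
  ∑ t : ZMod p, MonoidAlgebra.single (uT t) (ι t⁻¹)

/-- The sum over the subgroup of order three. -/
noncomputable def nel : MonoidAlgebra K SL(2, ZMod p) :=
  1 + MonoidAlgebra.single (sThree _) 1 + MonoidAlgebra.single (sThree _ * sThree _) 1

variable {K}

theorem dT_wel (x : (ZMod p)ˣ) (μ : ℕ) :
    MonoidAlgebra.single (dT x) (1 : K) * wel K μ = ι (x : ZMod p) ^ μ • wel K μ := by
  rw [wel, mul_neg, smul_neg, Finset.mul_sum, Finset.smul_sum]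
  congr 1
  refine Fintype.sum_equiv (Equiv.mulLeft x) _ _ fun y => ?_
  rw [MonoidAlgebra.single_mul_single, dT_mul, one_mul, MonoidAlgebra.smul_single, smul_eq_mul,
    Equiv.coe_mulLeft, ← mul_pow, ← map_mul, ← Units.val_mul, _root_.mul_inv_rev,
    mul_left_comm, mul_inv_cancel, mul_one]

theorem wel_mul_wel (ν μ : ℕ) :
    wel K ν * wel K μ = if μ ≡ ν [MOD p - 1] then wel K μ else (0 : MonoidAlgebra K SL(2, ZMod p)) := by
  conv_lhs => arg 1; rw [wel]
  rw [neg_mul, Finset.sum_mul]
  have : ∀ x : (ZMod p)ˣ, MonoidAlgebra.single (dT x) (ι ((x⁻¹ : (ZMod p)ˣ) : ZMod p) ^ ν) * wel K μ =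
      (ι (x : ZMod p) ^ μ * ι ((x⁻¹ : (ZMod p)ˣ) : ZMod p) ^ ν) • wel K μ := fun x => by
    rw [show MonoidAlgebra.single (dT x) (ι ((x⁻¹ : (ZMod p)ˣ) : ZMod p) ^ ν) =
      ι ((x⁻¹ : (ZMod p)ˣ) : ZMod p) ^ ν • MonoidAlgebra.single (dT x) (1 : K) by
        rw [MonoidAlgebra.smul_single, smul_eq_mul, mul_one],
      smul_mul_assoc, dT_wel, smul_smul, mul_comm]
  rw [Finset.sum_congr rfl (fun x _ => this x), ← Finset.sum_smul, sum_units_pow_inv_pow]
  split <;> simp

theorem wel_idem (μ : ℕ) : wel K μ * wel K μ = (wel K μ : MonoidAlgebra K SL(2, ZMod p)) := by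
  rw [wel_mul_wel, if_pos (Nat.ModEq.refl _)]

theorem wel_congr {μ ν : ℕ} (h : μ ≡ ν [MOD p - 1]) :
    (wel K μ : MonoidAlgebra K SL(2, ZMod p)) = wel K ν := by
  simp only [wel]
  congr 1
  refine Finset.sum_congr rfl fun x _ => ?_
  congr 1
  rw [← map_pow, ← map_pow, ← Units.val_pow_eq_pow_val, ← Units.val_pow_eq_pow_val]
  congr 2
  exact pow_eq_pow_iff_modEq.2 (h.of_dvd (orderOf_dvd_of_pow_eq_one
    (ZMod.units_pow_card_sub_one_eq_one p _)))

theorem dT_eel (x : (ZMod p)ˣ) :
    MonoidAlgebra.single (dT x) (1 : K) * eel K =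
      ι (x : ZMod p) ^ 2 • (eel K * MonoidAlgebra.single (dT x) 1) := by
  rw [eel, Finset.mul_sum, Finset.sum_mul, Finset.smul_sum]
  refine Fintype.sum_equiv (Equiv.mulLeft₀ ((x : ZMod p) ^ 2) (pow_ne_zero _ x.ne_zero)) _ _
    fun t => ?_
  rw [MonoidAlgebra.single_mul_single, MonoidAlgebra.single_mul_single, MonoidAlgebra.smul_single,
    smul_eq_mul, one_mul, mul_one, Equiv.mulLeft₀_apply, dT_conj_uT]
  congr 1
  rw [← map_pow, ← map_mul, mul_inv, ← mul_assoc, mul_inv_cancel₀ (pow_ne_zero _ x.ne_zero),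
    one_mul]

theorem eel_wel (μ : ℕ) :
    eel K * wel K μ = (wel K (μ + 2) * eel K : MonoidAlgebra K SL(2, ZMod p)) := by
  simp only [wel]
  rw [neg_mul, mul_neg, Finset.sum_mul, Finset.mul_sum]
  congr 1
  refine Finset.sum_congr rfl fun x _ => ?_
  have e : ∀ c : K, MonoidAlgebra.single (dT x) c = c • MonoidAlgebra.single (dT x) (1 : K) :=
    fun c => by rw [MonoidAlgebra.smul_single, smul_eq_mul, mul_one]
  rw [e, e (_ ^ (μ + 2)), mul_smul_comm, smul_mul_assoc, dT_eel, smul_smul, pow_add, mul_assoc,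
    ← mul_pow, ← map_mul, Units.inv_mul, map_one, one_pow, mul_one]

theorem eel_pow_wel (j μ : ℕ) :
    eel K ^ j * wel K μ = (wel K (μ + 2 * j) * eel K ^ j : MonoidAlgebra K SL(2, ZMod p)) := by
  induction j with
  | zero => simp
  | succ j ih =>
    rw [pow_succ', mul_assoc, ih, ← mul_assoc, eel_wel, mul_assoc]
    congr 1

variable [FiniteDimensional K V] (ρ : Representation K SL(2, ZMod p) V)

/-- The weight space. -/
noncomputable def wSp (μ : ℕ) : Submodule K V := range (act ρ (wel K μ))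

/-- The operator of the raising element. -/
noncomputable def eOp : Module.End K V := act ρ (eel K)

theorem finrank_wSp (μ : ℕ) : finrank K (wSp ρ μ) = rk ρ (wel K μ) := rfl

theorem wSp_congr {μ ν : ℕ} (h : μ ≡ ν [MOD p - 1]) : wSp ρ μ = wSp ρ ν := by
  rw [wSp, wSp, wel_congr h]

theorem map_wSp (μ j : ℕ) : (wSp ρ μ).map (eOp ρ ^ j) = range (act ρ (eel K ^ j * wel K μ)) := by
  rw [act_mul, act_pow, eOp, wSp, Module.End.mul_eq_comp, LinearMap.range_comp]

theorem map_wSp_le (μ j : ℕ) : (wSp ρ μ).map (eOp ρ ^ j) ≤ wSp ρ (μ + 2 * j) := by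
  rw [map_wSp, eel_pow_wel, act_mul, Module.End.mul_eq_comp, LinearMap.range_comp]
  exact LinearMap.map_le_range

theorem act_wel_of_mem {μ : ℕ} {v : V} (hv : v ∈ wSp ρ μ) (ν : ℕ) :
    act ρ (wel K ν) v = if μ ≡ ν [MOD p - 1] then v else 0 := by
  obtain ⟨w, rfl⟩ := hv
  rw [← Module.End.mul_apply, ← act_mul, wel_mul_wel]
  split
  · rfl
  · simp [act]

omit [FiniteDimensional K V] in
theorem act_eel_apply (v : V) : eOp ρ v = ∑ t : ZMod p, ι t⁻¹ • ρ (uT t) v := by
  simp [eOp, eel, act, map_sum, LinearMap.sum_apply]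

theorem sum_emb_inv : ∑ t : ZMod p, ι t⁻¹ = 0 ∨ p = 2 := by
  by_cases hp : p = 2
  · exact Or.inr hp
  left
  rw [← map_sum, Fintype.sum_equiv (Equiv.inv (ZMod p)) (fun t => t⁻¹) id (fun t => rfl)]
  have h := FiniteField.sum_pow_lt_card_sub_one (ZMod p) 1 (by
    rw [ZMod.card]
    have := (Fact.out : p.Prime).two_le
    omega)
  simp only [pow_one] at h
  simp [h]

omit [FiniteDimensional K V] in
theorem eOp_fix_sq {hp : p ≠ 2} {w : V} (h : ρ (uT 1) (ρ (uT 1) w - w) = ρ (uT 1) w - w) :
    eOp ρ w = -(ρ (uT 1) w - w) := by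
  set x := ρ (uT 1) w - w with hx
  have hk : ∀ k : ℕ, ρ (uT (k : ZMod p)) w = w + (k : K) • x := by
    intro k
    induction k with
    | zero => simp [uT_zero]
    | succ k ih =>
      rw [Nat.cast_succ, add_comm (k : ZMod p), ← uT_mul, rho_mul_apply, ih, map_add, map_smul, h,
        Nat.cast_succ, add_smul, one_smul, show ρ (uT 1) w = w + x by rw [hx]; abel]
      abel
  rw [act_eel_apply]
  have : ∀ t : ZMod p, ι t⁻¹ • ρ (uT t) w = ι t⁻¹ • w + ι (t⁻¹ * t) • x := fun t => by
    have e : ι t = ((t.val : ℕ) : K) := by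
      conv_lhs => rw [← ZMod.natCast_zmod_val t, map_natCast]
    conv_lhs => rw [← ZMod.natCast_zmod_val t, hk, ZMod.natCast_zmod_val]
    rw [smul_add, smul_smul, map_mul, e]
  simp only [this, Finset.sum_add_distrib, ← Finset.sum_smul]
  rw [(sum_emb_inv (K := K) (p := p)).resolve_right hp, zero_smul, zero_add]
  rw [show ∑ t : ZMod p, ι (t⁻¹ * t) = -1 by
    rw [← Finset.add_sum_erase _ _ (Finset.mem_univ (0 : ZMod p))]
    rw [Finset.sum_congr rfl (g := fun _ => (1 : K)) fun t ht => by
      rw [inv_mul_cancel₀ (Finset.mem_erase.1 ht).1, map_one]]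
    simp [Finset.card_erase_of_mem, ZMod.card, Nat.cast_sub (Fact.out : p.Prime).one_le]]
  rw [neg_one_smul]

omit [FiniteDimensional K V] in
/-- The kernel of the raising operator is fixed by the unipotent element. -/
theorem ker_eOp_le (hp : p ≠ 2) : ker (eOp ρ) ≤ fixSp ρ (uT 1) := by
  intro v hv
  set x : Module.End K V := ρ (uT 1) - 1 with hx
  have hcomm : Commute (eOp ρ) x := by
    have h1 : Commute (eel K) (MonoidAlgebra.single (uT (1 : ZMod p)) (1 : K)) := by
      refine Commute.sum_left _ _ _ fun t _ => ?_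
      show _ = _
      rw [MonoidAlgebra.single_mul_single, MonoidAlgebra.single_mul_single, uT_mul, uT_mul,
        add_comm, mul_comm]
    refine Commute.sub_right ?_ (Commute.one_right _)
    have := h1.map (ρ.asAlgebraHom : MonoidAlgebra K SL(2, ZMod p) →ₐ[K] Module.End K V)
    rwa [Representation.asAlgebraHom_single, one_smul] at this
  have hnil : x ^ p = 0 := by
    rcases subsingleton_or_nontrivial V with hV | hV
    · exact LinearMap.ext fun v => Subsingleton.elim _ _
    haveI : CharP (Module.End K V) p :=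
      charP_of_injective_algebraMap (FaithfulSMul.algebraMap_injective K (Module.End K V)) p
    rw [hx, sub_pow_char_of_commute p (Commute.one_right _), ← map_pow, uT_pow_p, map_one, one_pow,
      sub_self]
  have key : ∀ j, (x ^ (j + 2)) v = 0 → (x ^ (j + 1)) v = 0 := by
    intro j hj
    set w := (x ^ j) v with hw
    have h1 : ρ (uT 1) (ρ (uT 1) w - w) = ρ (uT 1) w - w := by
      have : x (x w) = 0 := by
        rw [pow_succ', pow_succ', Module.End.mul_apply, Module.End.mul_apply] at hj
        exact hj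
      rw [← sub_eq_zero]
      exact this
    have h2 := eOp_fix_sq (hp := hp) ρ h1
    have h3 : eOp ρ w = 0 := by
      rw [hw, ← Module.End.mul_apply, (hcomm.pow_right j).eq, Module.End.mul_apply,
        LinearMap.mem_ker.1 hv, map_zero]
    rw [h3, zero_eq_neg] at h2
    rw [pow_succ', Module.End.mul_apply]
    exact h2
  have down : ∀ k, (x ^ (k + 1)) v = 0 → x v = 0 := by
    intro k
    induction k with
    | zero => intro h; simpa using h
    | succ k ih => intro h; exact ih (key k h)
  have hp1 : (x ^ (p - 1 + 1)) v = 0 := by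
    rw [Nat.sub_add_cancel (Fact.out : p.Prime).one_le, hnil, LinearMap.zero_apply]
  exact LinearMap.mem_ker.2 (down _ hp1)

omit [FiniteDimensional K V] in
theorem eOp_pow_p (hp : p ≠ 2) : eOp ρ ^ p = 0 := by
  rcases subsingleton_or_nontrivial V with hV | hV
  · exact LinearMap.ext fun v => Subsingleton.elim _ _
  haveI : CharP (Module.End K V) p :=
    charP_of_injective_algebraMap (FaithfulSMul.algebraMap_injective K (Module.End K V)) p
  set x : Module.End K V := ρ (uT 1) - 1 with hx
  have hnil : x ^ p = 0 := by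
    rw [hx, sub_pow_char_of_commute p (Commute.one_right _), ← map_pow, uT_pow_p, map_one, one_pow,
      sub_self]
  set q : Module.End K V := ∑ t : ZMod p, ι t⁻¹ • ∑ i ∈ Finset.range t.val, ρ (uT 1) ^ i with hq
  have he : eOp ρ = q * x := by
    rw [hq, Finset.sum_mul]
    simp only [smul_mul_assoc, hx, geom_sum_mul, smul_sub, Finset.sum_sub_distrib,
      ← Finset.sum_smul]
    rw [(sum_emb_inv (K := K) (p := p)).resolve_right hp, zero_smul, sub_zero]
    refine LinearMap.ext fun v => ?_
    rw [act_eel_apply, LinearMap.sum_apply]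
    refine Finset.sum_congr rfl fun t _ => ?_
    rw [LinearMap.smul_apply, ← map_pow, uT_pow, mul_one, ZMod.natCast_zmod_val]
  have hqx : Commute q x := by
    refine Commute.sum_left _ _ _ fun t _ => Commute.smul_left (Commute.sum_left _ _ _ fun i _ => ?_) _
    exact ((Commute.refl _).sub_right (Commute.one_right _)).pow_left i
  rw [he, hqx.mul_pow, hnil, mul_zero]

theorem finrank_fix_ge {hp : p ≠ 2} (s : Finset ℕ)
    (hs : ∀ a ∈ s, ∀ b ∈ s, a ≡ b [MOD p - 1] → a = b) :
    ∑ μ ∈ s, finrank K (wSp ρ μ ⊓ ker (eOp ρ) : Submodule K V) ≤ fdim ρ (uT 1) := by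
  have key : ∀ t : Finset ℕ, t ⊆ s → ∑ μ ∈ t, finrank K (wSp ρ μ ⊓ ker (eOp ρ) : Submodule K V) ≤
      finrank K (t.sup fun μ => wSp ρ μ ⊓ ker (eOp ρ) : Submodule K V) := by
    intro t
    induction t using Finset.induction with
    | empty => simp
    | insert a t ha ih =>
      intro hsub
      rw [Finset.sum_insert ha, Finset.sup_insert]
      have hd : (wSp ρ a ⊓ ker (eOp ρ)) ⊓ (t.sup fun μ => wSp ρ μ ⊓ ker (eOp ρ)) = ⊥ := by
        rw [Submodule.eq_bot_iff]
        rintro v ⟨⟨hv, -⟩, hv'⟩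
        have h1 := act_wel_of_mem ρ hv a
        rw [if_pos (Nat.ModEq.refl _)] at h1
        have h2 : t.sup (fun μ => wSp ρ μ ⊓ ker (eOp ρ)) ≤ ker (act ρ (wel K a)) := by
          refine Finset.sup_le fun μ hμ w hw => ?_
          rw [LinearMap.mem_ker, act_wel_of_mem ρ hw.1 a, if_neg fun e => ha ?_]
          rw [← hs μ (hsub (Finset.mem_insert_of_mem hμ)) a (hsub (Finset.mem_insert_self a t)) e]
          exact hμ
        rw [← h1]
        exact h2 hv'
      have h := Submodule.finrank_sup_add_finrank_inf_eq (wSp ρ a ⊓ ker (eOp ρ))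
        (t.sup fun μ => wSp ρ μ ⊓ ker (eOp ρ))
      rw [hd, finrank_bot] at h
      have := ih fun x hx => hsub (Finset.mem_insert_of_mem hx)
      omega
  exact (key s subset_rfl).trans (Submodule.finrank_mono ((Finset.sup_le fun μ _ =>
    inf_le_right).trans (ker_eOp_le ρ hp)))

end Cfsg.Agent.FixDim
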