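import Mathlib
import Cfsg.Agent.Lib.FixDim.Weights

/-!
# Homogeneous functions on the plane: the simple modules of `SL₂(p)` in characteristic `p`
-/

set_option autoImplicit false

namespace Cfsg.Agent.FixDim

open Module LinearMap Finset
open scoped MatrixGroups

variable {p : ℕ} [Fact p.Prime] {K : Type*} [Field K] [CharP K p]

local notation "ι" => emb (p := p) K

/-- The non-zero vectors of the plane. -/
abbrev Pt (p : ℕ) : Type := {w : ZMod p × ZMod p // w ≠ 0}

/-- Matrices act on the plane. -/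
def app (g : SL(2, ZMod p)) (w : ZMod p × ZMod p) : ZMod p × ZMod p :=
  (g.1 0 0 * w.1 + g.1 0 1 * w.2, g.1 1 0 * w.1 + g.1 1 1 * w.2)

theorem app_one (w : ZMod p × ZMod p) : app 1 w = w := by simp [app]

theorem app_mul (g h : SL(2, ZMod p)) (w : ZMod p × ZMod p) : app (g * h) w = app g (app h w) := by
  simp only [app, mul_entry]
  exact Prod.ext (by ring) (by ring)

theorem app_zero (g : SL(2, ZMod p)) : app g 0 = 0 := by simp [app]

theorem app_ne {g : SL(2, ZMod p)} {w : ZMod p × ZMod p} (hw : w ≠ 0) : app g w ≠ 0 := fun e =>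
  hw (by rw [← app_one w, ← inv_mul_cancel g, app_mul, e, app_zero])

/-- Matrices act on the non-zero vectors. -/
def appP (g : SL(2, ZMod p)) (w : Pt p) : Pt p := ⟨app g w.1, app_ne w.2⟩

theorem appP_one (w : Pt p) : appP 1 w = w := Subtype.ext (app_one _)

theorem appP_mul (g h : SL(2, ZMod p)) (w : Pt p) : appP (g * h) w = appP g (appP h w) :=
  Subtype.ext (app_mul _ _ _)

variable (p K)

/-- Functions on the non-zero vectors. -/
noncomputable def fnRep : Representation K SL(2, ZMod p) (Pt p → K) where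
  toFun g := LinearMap.funLeft K K (appP g⁻¹)
  map_one' := by
    ext f w
    simp [LinearMap.funLeft, appP_one]
  map_mul' g h := by
    ext f w
    simp [LinearMap.funLeft, appP_mul]

variable {p K}

theorem fnRep_apply (g : SL(2, ZMod p)) (f : Pt p → K) (w : Pt p) :
    fnRep p K g f w = f (appP g⁻¹ w) := rfl

theorem fnRep_mulFn (g : SL(2, ZMod p)) (f h : Pt p → K) :
    fnRep p K g (f * h) = fnRep p K g f * fnRep p K g h := rfl

theorem fnRep_powFn (g : SL(2, ZMod p)) (f : Pt p → K) (n : ℕ) :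
    fnRep p K g (f ^ n) = fnRep p K g f ^ n := rfl

variable (p K)

/-- The first coordinate. -/
noncomputable def px : Pt p → K := fun w => ι w.1.1

/-- The second coordinate. -/
noncomputable def py : Pt p → K := fun w => ι w.1.2

variable {p K}

section Span

variable {X : Type*}

/-- The span of the products of `n` factors among two functions. -/
def hsp (a b : X → K) (n : ℕ) : Submodule K (X → K) :=
  Submodule.span K (Set.range fun i : Fin (n + 1) => a ^ (i : ℕ) * b ^ (n - (i : ℕ)))

theorem mem_hsp {a b : X → K} {n i : ℕ} (hi : i ≤ n) : a ^ i * b ^ (n - i) ∈ hsp a b n :=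
  Submodule.subset_span ⟨⟨i, by omega⟩, rfl⟩

omit [Fact p.Prime] [CharP K p] in
theorem mul_mem_hsp {a b c f : X → K} {n : ℕ} (hc : c ∈ Submodule.span K ({a, b} : Set (X → K)))
    (hf : f ∈ hsp a b n) : c * f ∈ hsp a b (n + 1) := by
  obtain ⟨r, s, rfl⟩ := Submodule.mem_span_pair.1 hc
  refine Submodule.span_induction ?_ (by simp) (fun x y _ _ hx hy => by
    rw [mul_add]; exact add_mem hx hy) (fun t x _ hx => by
    rw [mul_smul_comm]; exact Submodule.smul_mem _ t hx) hf
  rintro _ ⟨i, rfl⟩
  dsimp only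
  rw [add_mul, smul_mul_assoc, smul_mul_assoc]
  refine add_mem (Submodule.smul_mem _ _ ?_) (Submodule.smul_mem _ _ ?_)
  · rw [← mul_assoc, ← pow_succ', show n - (i : ℕ) = n + 1 - (i + 1) by omega]
    exact mem_hsp (by omega)
  · rw [mul_left_comm, ← pow_succ', show n - (i : ℕ) + 1 = n + 1 - i by omega]
    exact mem_hsp (by omega)

omit [Fact p.Prime] [CharP K p] in
theorem pow_mul_pow_mem {a b a' b' : X → K} (ha : a' ∈ Submodule.span K ({a, b} : Set (X → K)))
    (hb : b' ∈ Submodule.span K ({a, b} : Set (X → K))) (i j : ℕ) :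
    a' ^ i * b' ^ j ∈ hsp a b (i + j) := by
  induction i with
  | zero =>
    induction j with
    | zero => simpa using mem_hsp (a := a) (b := b) (n := 0) (i := 0) le_rfl
    | succ j ih =>
      rw [pow_succ', mul_left_comm, show 0 + (j + 1) = 0 + j + 1 by omega]
      exact mul_mem_hsp hb ih
  | succ i ih =>
    rw [pow_succ', mul_assoc, show i + 1 + j = i + j + 1 by omega]
    exact mul_mem_hsp ha ih

omit [Fact p.Prime] [CharP K p] in
theorem hsp_le {a b a' b' : X → K} (ha : a' ∈ Submodule.span K ({a, b} : Set (X → K)))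
    (hb : b' ∈ Submodule.span K ({a, b} : Set (X → K))) (n : ℕ) : hsp a' b' n ≤ hsp a b n := by
  rw [hsp, Submodule.span_le]
  rintro _ ⟨i, rfl⟩
  have h := pow_mul_pow_mem ha hb (i : ℕ) (n - (i : ℕ))
  rwa [show (i : ℕ) + (n - (i : ℕ)) = n by omega] at h

end Span

variable (p K)

/-- A monomial. -/
noncomputable def mon (n i : ℕ) : Pt p → K := px p K ^ i * py p K ^ (n - i)

/-- The homogeneous functions of degree `n`. -/
noncomputable def Pn (n : ℕ) : Submodule K (Pt p → K) := hsp (px p K) (py p K) n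

variable {p K}

theorem mon_apply (n i : ℕ) (w : Pt p) : mon p K n i w = ι w.1.1 ^ i * ι w.1.2 ^ (n - i) := rfl

theorem fnRep_lin (g : SL(2, ZMod p)) :
    fnRep p K g (px p K) = ι (g⁻¹.1 0 0) • px p K + ι (g⁻¹.1 0 1) • py p K ∧
      fnRep p K g (py p K) = ι (g⁻¹.1 1 0) • px p K + ι (g⁻¹.1 1 1) • py p K := by
  constructor <;> funext w <;> simp [fnRep_apply, appP, app, px, py]

theorem Pn_invariant (n : ℕ) (g : SL(2, ZMod p)) :
    ∀ f ∈ Pn p K n, fnRep p K g f ∈ Pn p K n := by
  intro f hf
  have h := fnRep_lin (K := K) g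
  refine Submodule.span_induction ?_ (by simp) (fun x y _ _ hx hy => by
    rw [map_add]; exact add_mem hx hy) (fun t x _ hx => by
    rw [map_smul]; exact Submodule.smul_mem _ t hx) hf
  rintro _ ⟨i, rfl⟩
  dsimp only
  rw [fnRep_mulFn, fnRep_powFn, fnRep_powFn, h.1, h.2]
  have hm : ∀ a b : K, a • px p K + b • py p K ∈
      Submodule.span K ({px p K, py p K} : Set (Pt p → K)) :=
    fun a b => Submodule.mem_span_pair.2 ⟨a, b, rfl⟩
  have h' := pow_mul_pow_mem (hm (ι (g⁻¹.1 0 0)) (ι (g⁻¹.1 0 1)))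
    (hm (ι (g⁻¹.1 1 0)) (ι (g⁻¹.1 1 1))) (i : ℕ) (n - (i : ℕ))
  rwa [show (i : ℕ) + (n - (i : ℕ)) = n by omega] at h'

theorem mon_linearIndependent {n : ℕ} (hn : n ≤ p - 1) :
    LinearIndependent K (fun i : Fin (n + 1) => mon p K n i) := by
  classical
  rw [Fintype.linearIndependent_iff]
  intro c hc j
  set P : Polynomial K := ∑ i : Fin (n + 1), Polynomial.C (c i) * Polynomial.X ^ (i : ℕ) with hP
  have hroot : ∀ x : ZMod p, P.eval (ι x) = 0 := fun x => by
    have h := congrFun hc ⟨(x, 1), fun e => one_ne_zero (congrArg Prod.snd e)⟩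
    simpa [hP, Polynomial.eval_finset_sum, mon_apply, Finset.sum_apply] using h
  have hP0 : P = 0 := by
    refine Polynomial.eq_zero_of_degree_lt_of_eval_finset_eq_zero
      (Finset.univ.image ι) ?_ ?_
    · rw [Finset.card_image_of_injective _ (RingHom.injective _), Finset.card_univ, ZMod.card]
      refine lt_of_le_of_lt (Polynomial.degree_sum_le _ _) ?_
      rw [Finset.sup_lt_iff (WithBot.bot_lt_coe _)]
      intro i _
      refine lt_of_le_of_lt (Polynomial.degree_C_mul_X_pow_le _ _) ?_
      have := i.2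
      have := (Fact.out : p.Prime).two_le
      exact_mod_cast (show (i : ℕ) < p by omega)
    · intro y hy
      obtain ⟨x, -, rfl⟩ := Finset.mem_image.1 hy
      exact hroot x
  have h := congrArg (fun Q : Polynomial K => Q.coeff j) hP0
  simpa [hP, Polynomial.finset_sum_coeff, Polynomial.coeff_C_mul, Polynomial.coeff_X_pow, Fin.val_inj]
    using h

theorem finrank_Pn {n : ℕ} (hn : n ≤ p - 1) : finrank K (Pn p K n) = n + 1 := by
  rw [Pn, hsp]
  exact (finrank_span_eq_card (mon_linearIndependent hn)).trans (Fintype.card_fin _)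

/-- Monomials with distinct exponents are independent. -/
theorem finrank_span_mon {n : ℕ} (hn : n ≤ p - 1) (s : Finset (Fin (n + 1))) :
    finrank K (Submodule.span K ((fun i : Fin (n + 1) => mon p K n i) '' (s : Set (Fin (n + 1))))) =
      s.card := by
  rw [Set.image_eq_range, finrank_span_eq_card]
  · simp
  · exact (mon_linearIndependent hn).comp _ Subtype.val_injective

theorem sum_inv_mul_pow {k : ℕ} (hk : k ≤ p - 1) (hp : p ≠ 2) :
    ∑ t : ZMod p, ι t⁻¹ * ι t ^ k = if k = 1 then -1 else 0 := by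
  rcases Nat.eq_zero_or_pos k with rfl | hk0
  · simpa using (sum_emb_inv (K := K) (p := p)).resolve_right hp
  obtain ⟨j, rfl⟩ : ∃ j, k = j + 1 := ⟨k - 1, by omega⟩
  have e : ∀ t : ZMod p, ι t⁻¹ * ι t ^ (j + 1) =
      ι (t ^ j) - (if t = 0 ∧ j = 0 then 1 else 0) := fun t => by
    rw [← map_pow, ← map_mul]
    by_cases ht : t = 0
    · subst ht
      cases j <;> simp
    · simp [ht, pow_succ', inv_mul_cancel_left₀ ht]
  rw [Finset.sum_congr rfl fun t _ => e t, Finset.sum_sub_distrib, ← map_sum,
    FiniteField.sum_pow_lt_card_sub_one (ZMod p) j (by rw [ZMod.card]; omega), map_zero, zero_sub]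
  cases j <;> simp

theorem eOp_mon {n i : ℕ} (hi : i ≤ n) (hn : n ≤ p - 1) (hp : p ≠ 2) :
    eOp (fnRep p K) (mon p K n i) = (i : K) • mon p K n (i - 1) := by
  rw [act_eel_apply]
  funext w
  simp only [Finset.sum_apply, Pi.smul_apply, smul_eq_mul, fnRep_apply, mon_apply, appP, app, uT_inv]
  simp only [uT, mk2_00, mk2_01, mk2_10, mk2_11, one_mul, zero_mul, zero_add, map_add, map_mul, map_neg]
  set X := ι w.1.1
  set Y := ι w.1.2
  have e : ∀ t : ZMod p, ι t⁻¹ * ((X + -ι t * Y) ^ i * Y ^ (n - i)) =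
      ∑ k ∈ Finset.range (i + 1),
        (ι t⁻¹ * ι t ^ k) * ((-Y) ^ k * X ^ (i - k) * (i.choose k : K) * Y ^ (n - i)) := fun t => by
    rw [show X + -ι t * Y = (ι t * -Y) + X by ring, add_pow, Finset.sum_mul, Finset.mul_sum]
    exact Finset.sum_congr rfl fun k _ => by ring
  rw [Finset.sum_congr rfl fun t _ => e t, Finset.sum_comm]
  rw [Finset.sum_congr rfl (g := fun k => if k = 1 then
    (-1 : K) * ((-Y) ^ k * X ^ (i - k) * (i.choose k : K) * Y ^ (n - i)) else 0) fun k hk => by
    rw [← Finset.sum_mul, sum_inv_mul_pow (by have := Finset.mem_range.1 hk; omega) hp, ite_mul,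
      zero_mul], Finset.sum_ite_eq']
  rcases Nat.eq_zero_or_pos i with rfl | hi0
  · simp
  rw [if_pos (Finset.mem_range.2 (by omega)), Nat.choose_one_right,
    show n - (i - 1) = n - i + 1 by omega]
  ring

theorem wel_mon (μ n i : ℕ) :
    act (fnRep p K) (wel K μ) (mon p K n i) =
      if n - i ≡ i + μ [MOD p - 1] then mon p K n i else 0 := by
  rw [wel, act, map_neg, map_sum, LinearMap.neg_apply, LinearMap.sum_apply]
  funext w
  simp only [Pi.neg_apply, Finset.sum_apply, Representation.asAlgebraHom_single, LinearMap.smul_apply,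
    Pi.smul_apply, smul_eq_mul]
  have e : ∀ x : (ZMod p)ˣ, ι ((x⁻¹ : (ZMod p)ˣ) : ZMod p) ^ μ * fnRep p K (dT x) (mon p K n i) w =
      (ι (x : ZMod p) ^ (n - i) * ι ((x⁻¹ : (ZMod p)ˣ) : ZMod p) ^ (i + μ)) * mon p K n i w :=
    fun x => by
    have hinv : (dT x)⁻¹ = dT x⁻¹ := inv_eq_of_mul_eq_one_right (by rw [dT_mul, mul_inv_cancel, dT_one])
    simp only [fnRep_apply, mon_apply, appP, app, hinv]
    simp only [dT, inv_inv, mk2_00, mk2_01, mk2_10, mk2_11,
      zero_mul, add_zero, zero_add, map_mul]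
    ring
  rw [Finset.sum_congr rfl fun x _ => e x, ← Finset.sum_mul, sum_units_pow_inv_pow]
  split <;> simp

variable {S : Type*} [AddCommGroup S] [Module K S]

/-- Invariance of a subspace. -/
def IsInv (ρ : Representation K SL(2, ZMod p) S) (W : Submodule K S) : Prop :=
  ∀ g, ∀ v ∈ W, ρ g v ∈ W

omit [CharP K p] in
theorem exists_fixed [FiniteDimensional K S] [Nontrivial S] (hpK : CharP K p)
    (ρ : Representation K SL(2, ZMod p) S) {g : SL(2, ZMod p)} (hg : g ^ p = 1) :
    ∃ v : S, v ≠ 0 ∧ ρ g v = v := by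
  haveI : CharP (Module.End K S) p :=
    charP_of_injective_algebraMap (FaithfulSMul.algebraMap_injective K (Module.End K S)) p
  have h : (ρ g - 1) ^ p = 0 := by
    rw [sub_pow_char_of_commute p (Commute.one_right _), ← map_pow, hg, map_one, one_pow, sub_self]
  by_contra hne
  simp only [not_exists, not_and] at hne
  have hinj : Function.Injective ⇑(ρ g - 1 : Module.End K S) := (injective_iff_map_eq_zero _).2 fun v hv => by
    by_contra hv0
    exact hne v hv0 (sub_eq_zero.1 hv)
  have hall : ∀ k : ℕ, Function.Injective ⇑((ρ g - 1 : Module.End K S) ^ k) := fun k => by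
    rw [Module.End.coe_pow]
    exact hinj.iterate k
  obtain ⟨v, hv⟩ := exists_ne (0 : S)
  exact hv (hall p (by rw [h]; rfl))

theorem sum_wel : ∑ μ ∈ Finset.range (p - 1), wel K μ = (1 : MonoidAlgebra K SL(2, ZMod p)) := by
  simp only [wel]
  rw [Finset.sum_neg_distrib, Finset.sum_comm]
  have hone : ((p - 1 : ℕ) : K) = -1 := by
    rw [Nat.cast_sub (Fact.out : p.Prime).one_le]; simp
  rw [Finset.sum_eq_single (1 : (ZMod p)ˣ)]
  · rw [dT_one, MonoidAlgebra.one_def]
    simp only [inv_one, Units.val_one, map_one, one_pow, Finset.sum_const, Finset.card_range]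
    rw [← Nat.cast_smul_eq_nsmul K, hone, neg_one_smul, neg_neg]
  · intro x _ hx
    rw [show (∑ μ ∈ Finset.range (p - 1),
        MonoidAlgebra.single (dT x) (ι ((x⁻¹ : (ZMod p)ˣ) : ZMod p) ^ μ)) =
        (∑ μ ∈ Finset.range (p - 1), ι ((x⁻¹ : (ZMod p)ˣ) : ZMod p) ^ μ) •
          MonoidAlgebra.single (dT x) (1 : K) by
      rw [Finset.sum_smul]
      exact Finset.sum_congr rfl fun μ _ => by rw [MonoidAlgebra.smul_single, smul_eq_mul, mul_one]]
    rw [geom_sum_eq ?_, ← map_pow, ← Units.val_pow_eq_pow_val,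
      ZMod.units_pow_card_sub_one_eq_one, Units.val_one, map_one, sub_self, zero_div, zero_smul]
    intro e
    apply hx
    rw [← map_one ι] at e
    exact inv_eq_one.1 (Units.ext ((RingHom.injective _) e))
  · simp

variable (p) in
/-- A matrix with prescribed second column. -/
noncomputable def sect (w : ZMod p × ZMod p) : SL(2, ZMod p) :=
  if hy : w.2 = 0 then
    (if hx : w.1 = 0 then 1 else mk2 0 w.1 (-w.1⁻¹) 0 (by
      rw [zero_mul, mul_neg, mul_inv_cancel₀ hx]; ring))
  else mk2 w.2⁻¹ w.1 0 w.2 (by rw [inv_mul_cancel₀ hy, mul_zero, sub_zero])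

theorem app_sect {w : ZMod p × ZMod p} (hw : w ≠ 0) : app (sect p w) (0, 1) = w := by
  unfold sect
  by_cases hy : w.2 = 0
  · rw [dif_pos hy]
    have hx : w.1 ≠ 0 := fun e => hw (Prod.ext e hy)
    rw [dif_neg hx]
    refine Prod.ext ?_ ?_ <;> simp [app, hy]
  · rw [dif_neg hy]
    refine Prod.ext ?_ ?_ <;> simp [app]

theorem eq_lT_of_fix {h : SL(2, ZMod p)} (hh : app h (0, 1) = (0, 1)) : ∃ c, h = lT c := by
  have h1 : h.1 0 1 = 0 := by simpa [app] using congrArg Prod.fst hh
  have h2 : h.1 1 1 = 1 := by simpa [app] using congrArg Prod.snd hh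
  have hd := h.2
  rw [Matrix.det_fin_two, h1, h2, mul_one, zero_mul, sub_zero] at hd
  exact ⟨h.1 1 0, sl_ext hd h1 rfl h2⟩

/-- The intertwining operator on functions. -/
noncomputable def tOp : (Pt p → K) →ₗ[K] (Pt p → K) where
  toFun f := fun v => ∑ x : Pt p, if v.1.1 * x.1.2 - v.1.2 * x.1.1 = 1 then f x else 0
  map_add' f g := by
    funext v
    simp only [Pi.add_apply, ← Finset.sum_add_distrib]
    refine Finset.sum_congr rfl fun x _ => ?_
    split <;> simp
  map_smul' c f := by
    funext v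
    simp only [Pi.smul_apply, smul_eq_mul, RingHom.id_apply, Finset.mul_sum, mul_ite, mul_zero]

theorem tOp_comm (g : SL(2, ZMod p)) (f : Pt p → K) :
    tOp (fnRep p K g f) = fnRep p K g (tOp f) := by
  funext v
  simp only [tOp, LinearMap.coe_mk, AddHom.coe_mk, fnRep_apply]
  refine (Fintype.sum_equiv
    { toFun := appP g, invFun := appP g⁻¹,
      left_inv := fun x => by rw [← appP_mul, inv_mul_cancel, appP_one],
      right_inv := fun x => by rw [← appP_mul, mul_inv_cancel, appP_one] } _ _ fun y => ?_).symm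
  simp only [Equiv.coe_fn_mk, ← appP_mul, inv_mul_cancel, appP_one]
  refine if_congr ?_ rfl rfl
  have hv : v.1 = app g (app g⁻¹ v.1) := by rw [← app_mul, mul_inv_cancel, app_one]
  have hd := g.2
  rw [Matrix.det_fin_two] at hd
  conv_rhs => rw [hv]
  generalize hu : app g⁻¹ v.1 = u
  have : (appP g⁻¹ v).1 = u := hu
  rw [this]
  simp only [appP, app]
  constructor <;> intro h
  · linear_combination h + (u.1 * y.1.2 - u.2 * y.1.1) * hd
  · linear_combination h - (u.1 * y.1.2 - u.2 * y.1.1) * hd

variable [FiniteDimensional K S]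

/-- From a vector mapped to a power of the second coordinate. -/
theorem model_of_mem (ρ : Representation K SL(2, ZMod p) S)
    (hsimp : ∀ W : Submodule K S, IsInv ρ W → W = ⊥ ∨ W = ⊤) (hp : p ≠ 2)
    (L : S →ₗ[K] (Pt p → K)) (hL : ∀ g v, L (ρ g v) = fnRep p K g (L v)) {n : ℕ} (hn : n ≤ p - 1)
    {v : S} {a : K} (ha : a ≠ 0) (hv : L v = a • mon p K n 0) :
    Function.Injective L ∧ range L = Pn p K n := by
  have hne : mon p K n 0 ≠ 0 := fun e => by
    have := congrFun e ⟨(0, 1), fun h => one_ne_zero (congrArg Prod.snd h)⟩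
    simp [mon_apply] at this
  have hker : ker L = ⊥ := by
    refine (hsimp (ker L) fun g w hw => ?_).resolve_right fun h => ?_
    · rw [LinearMap.mem_ker] at hw ⊢
      rw [hL, hw, map_zero]
    · have : L v = 0 := LinearMap.mem_ker.1 (h ▸ Submodule.mem_top)
      rw [hv, smul_eq_zero] at this
      exact this.elim ha hne
  refine ⟨LinearMap.ker_eq_bot.1 hker, le_antisymm ?_ ?_⟩
  · have hc : (Pn p K n).comap L = ⊤ := by
      refine (hsimp _ fun g w hw => ?_).resolve_left fun h => ?_
      · rw [Submodule.mem_comap] at hw ⊢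
        rw [hL]
        exact Pn_invariant n g _ hw
      · have hmem : v ∈ (Pn p K n).comap L := by
          rw [Submodule.mem_comap, hv]
          exact Submodule.smul_mem _ _ (mem_hsp (Nat.zero_le n))
        rw [h, Submodule.mem_bot] at hmem
        rw [hmem, map_zero] at hv
        exact (smul_eq_zero.1 hv.symm).elim ha hne
    rintro _ ⟨w, rfl⟩
    exact (hc.ge (Submodule.mem_top : w ∈ ⊤) : _)
  · have h0 : mon p K n 0 ∈ range L := ⟨a⁻¹ • v, by rw [map_smul, hv, smul_smul,
      inv_mul_cancel₀ ha, one_smul]⟩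
    have htop : mon p K n n ∈ range L := by
      obtain ⟨w, hw⟩ := h0
      have e : fnRep p K (iFour (ZMod p)) (mon p K n 0) = (-1 : K) ^ n • mon p K n n := by
        funext x
        have hinv : (iFour (ZMod p))⁻¹ = mk2 0 1 (-1) 0 (by ring) := inv_eq_of_mul_eq_one_right (by
          rw [iFour, comp2, mk2_mul, one_eq_mk2]
          exact mk2_congr (by ring) (by ring) (by ring) (by ring))
        simp only [fnRep_apply, mon_apply, appP, app, hinv, mk2_00, mk2_01, mk2_10, mk2_11, zero_mul,
          one_mul, add_zero, neg_mul, map_neg, Nat.sub_zero, Nat.sub_self, pow_zero, mul_one,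
          Pi.smul_apply, smul_eq_mul]
        rw [neg_pow]
      refine ⟨(-1 : K) ^ n • ρ (iFour (ZMod p)) w, ?_⟩
      rw [map_smul, hL, hw, e, smul_smul, ← mul_pow, neg_one_mul, neg_neg, one_pow, one_smul]
    have hdown : ∀ j, j ≤ n → mon p K n (n - j) ∈ range L := by
      intro j
      induction j with
      | zero => intro _; exact htop
      | succ j ih =>
        intro hj
        obtain ⟨w, hw⟩ := ih (by omega)
        have hne0 : ((n - j : ℕ) : K) ≠ 0 := by
          rw [Ne, CharP.cast_eq_zero_iff K p]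
          intro h
          have := Nat.le_of_dvd (by omega) h
          have := (Fact.out : p.Prime).two_le
          omega
        refine ⟨((n - j : ℕ) : K)⁻¹ • eOp ρ w, ?_⟩
        rw [map_smul, eOp, act_intertwine L hL, hw, ← eOp, eOp_mon (by omega) hn hp, smul_smul,
          inv_mul_cancel₀ hne0, one_smul, show n - j - 1 = n - (j + 1) by omega]
    rw [Pn, hsp, Submodule.span_le]
    rintro _ ⟨i, rfl⟩
    have := hdown (n - (i : ℕ)) (by omega)
    rwa [show n - (n - (i : ℕ)) = (i : ℕ) by omega] at this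

/-- The image of the base vector under a diagonal element. -/
theorem app_dT_inv (x : (ZMod p)ˣ) :
    app (dT x⁻¹ : SL(2, ZMod p)) ((0 : ZMod p), (1 : ZMod p)) = ((0 : ZMod p), (x : ZMod p)) := by
  refine Prod.ext ?_ ?_
  · show (dT x⁻¹).1 0 0 * (0 : ZMod p) + (dT x⁻¹).1 0 1 * (1 : ZMod p) = 0
    rw [dT, mk2_00, mk2_01, mul_zero, zero_mul, add_zero]
  · show (dT x⁻¹).1 1 0 * (0 : ZMod p) + (dT x⁻¹).1 1 1 * (1 : ZMod p) = x
    rw [dT, mk2_10, mk2_11, zero_mul, zero_add, mul_one, inv_inv]

/-- A shear moves a vector along its line. -/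
theorem appP_uT (t : ZMod p) (w w' : Pt p) (h : w'.1 = (w.1.1 + t * w.1.2, w.1.2)) :
    appP (uT (-t) : SL(2, ZMod p))⁻¹ w = w' := by
  apply Subtype.ext
  rw [h, uT_inv, neg_neg]
  refine Prod.ext ?_ ?_
  · show (uT t).1 0 0 * w.1.1 + (uT t).1 0 1 * w.1.2 = _
    rw [uT, mk2_00, mk2_01, one_mul]
  · show (uT t).1 1 0 * w.1.1 + (uT t).1 1 1 * w.1.2 = _
    rw [uT, mk2_10, mk2_11, one_mul, zero_mul, zero_add]

set_option maxHeartbeats 1600000 in
/-- Every simple module is the module of homogeneous functions of some degree below `p`. -/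
theorem exists_model [Nontrivial S] (ρ : Representation K SL(2, ZMod p) S)
    (hsimp : ∀ W : Submodule K S, IsInv ρ W → W = ⊥ ∨ W = ⊤) (hp : p ≠ 2) :
    ∃ (n : ℕ) (L : S →ₗ[K] (Pt p → K)), n ≤ p - 1 ∧ Function.Injective L ∧
      (∀ g v, L (ρ g v) = fnRep p K g (L v)) ∧ range L = Pn p K n := by
  have hp2 := (Fact.out : p.Prime).two_le
  haveI : Nontrivial (Module.Dual K S) := by
    refine Module.nontrivial_of_finrank_pos (R := K) ?_
    rw [Subspace.dual_finrank_eq]
    exact Module.finrank_pos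
  obtain ⟨l₀, hl0, hl1⟩ := exists_fixed (p := p) inferInstance ρ.dual (lT_pow_p (1 : ZMod p))
  obtain ⟨μ, hμ⟩ : ∃ μ, act ρ.dual (wel K μ) l₀ ≠ 0 := by
    by_contra h
    simp only [not_exists, not_not] at h
    apply hl0
    have e : l₀ = act ρ.dual (∑ μ ∈ Finset.range (p - 1), wel K μ) l₀ := by
      rw [sum_wel]; simp [act]
    rw [e, act, map_sum, LinearMap.sum_apply]
    exact Finset.sum_eq_zero fun μ _ => h μ
  set l := act ρ.dual (wel K μ) l₀ with hl
  have hlfix : ∀ c : ZMod p, ρ.dual (lT c) l = l := by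
    have hfix0 : ∀ c : ZMod p, ρ.dual (lT c) l₀ = l₀ := fun c => by
      have := fixSp_pow_le (ρ := ρ.dual) (lT (1 : ZMod p)) c.val (mem_fixSp.2 hl1)
      rw [lT_pow, ZMod.natCast_zmod_val, mul_one] at this
      exact mem_fixSp.1 this
    intro c
    rw [hl, wel, act, map_neg, map_sum, LinearMap.neg_apply, LinearMap.sum_apply, map_neg, map_sum]
    congr 1
    refine Finset.sum_congr rfl fun x _ => ?_
    rw [Representation.asAlgebraHom_single, LinearMap.smul_apply, map_smul, ← rho_mul_apply,
      show lT c * dT x = dT x * lT ((x : ZMod p) ^ 2 * c) by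
        rw [dT, lT, lT, mk2_mul, mk2_mul]
        exact mk2_congr (by ring) (by ring)
          (by linear_combination -((x : ZMod p) * c) * (Units.inv_mul x)) (by ring),
      rho_mul_apply, hfix0]
  have hleig : ∀ x : (ZMod p)ˣ, ρ.dual (dT x) l = ι (x : ZMod p) ^ μ • l := fun x => by
    have h : act ρ.dual (MonoidAlgebra.single (dT x) (1 : K) * wel K μ) l₀ =
        act ρ.dual (ι (x : ZMod p) ^ μ • wel K μ) l₀ := by rw [dT_wel]
    rw [act_mul, Module.End.mul_apply, act_single, one_smul] at h
    rw [h]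
    simp [act, hl]
  set m := (p - 2) * μ % (p - 1) with hm
  have hmlt : m < p - 1 := Nat.mod_lt _ (by omega)
  -- the equivariant map
  set Φ : S →ₗ[K] (Pt p → K) := LinearMap.pi fun w : Pt p => l ∘ₗ ρ (sect p w.1)⁻¹ with hΦ
  have hΦap : ∀ (g : SL(2, ZMod p)) (w : Pt p) (v : S), app g (0, 1) = w.1 →
      Φ v w = l (ρ g⁻¹ v) := fun g w v hg => by
    obtain ⟨c, hc⟩ := eq_lT_of_fix (h := (sect p w.1)⁻¹ * g) (by
      rw [app_mul, hg]
      conv_lhs => arg 2; rw [← app_sect w.2]
      rw [← app_mul, inv_mul_cancel, app_one])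
    rw [inv_mul_eq_iff_eq_mul] at hc
    have e := LinearMap.congr_fun (hlfix c) (ρ (sect p w.1)⁻¹ v)
    simp only [Representation.dual_apply, Module.Dual.transpose_apply, LinearMap.comp_apply] at e
    rw [← rho_mul_apply, ← _root_.mul_inv_rev, ← hc] at e
    exact e.symm
  have hequiv : ∀ g v, Φ (ρ g v) = fnRep p K g (Φ v) := fun g v => by
    funext w
    rw [fnRep_apply, hΦap (g⁻¹ * sect p w.1) (appP g⁻¹ w) v (by
      rw [app_mul, app_sect w.2]; rfl), _root_.mul_inv_rev, inv_inv, rho_mul_apply]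
    rfl
  obtain ⟨v₀, hv0, hv1⟩ := exists_fixed (p := p) inferInstance ρ (uT_pow_p (1 : ZMod p))
  set φ := Φ v₀ with hφ
  have hΦinj : Function.Injective Φ := by
    rw [← LinearMap.ker_eq_bot]
    refine (hsimp _ fun g w hw => ?_).resolve_right fun h => hμ ?_
    · rw [LinearMap.mem_ker] at hw ⊢
      rw [hequiv, hw, map_zero]
    · refine LinearMap.ext fun w => ?_
      have hw : Φ w = 0 := LinearMap.mem_ker.1 (h ▸ Submodule.mem_top)
      have e := congrFun hw ⟨(0, 1), fun h => one_ne_zero (congrArg Prod.snd h)⟩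
      rw [hΦap 1 _ w (app_one _), inv_one, map_one] at e
      exact e
  have hshift : ∀ (t : ZMod p) (w w' : Pt p), w'.1 = (w.1.1 + t * w.1.2, w.1.2) → φ w' = φ w := by
    intro t w w' hw'
    have hfix : ρ (uT (-t)) v₀ = v₀ := by
      have := fixSp_pow_le (ρ := ρ) (uT (1 : ZMod p)) (-t).val (mem_fixSp.2 hv1)
      rw [uT_pow, ZMod.natCast_zmod_val, mul_one] at this
      exact mem_fixSp.1 this
    have e := congrFun (hequiv (uT (-t)) v₀) w
    have e2 := appP_uT t w w' hw'
    rw [hfix, fnRep_apply, e2] at e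
    exact e.symm
  have hscale : ∀ (x : (ZMod p)ˣ) (w w' : Pt p),
      w'.1 = ((x : ZMod p) * w.1.1, (x : ZMod p) * w.1.2) → φ w' = ι (x : ZMod p) ^ m * φ w := by
    intro x w w' hw'
    rw [hφ, hΦap (sect p w.1 * dT x⁻¹) w' v₀ ?_]
    · rw [_root_.mul_inv_rev, rho_mul_apply]
      have e := LinearMap.congr_fun (hleig x⁻¹) (ρ (sect p w.1)⁻¹ v₀)
      simp only [Representation.dual_apply, Module.Dual.transpose_apply, LinearMap.comp_apply,
        LinearMap.smul_apply, smul_eq_mul] at e
      rw [e]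
      congr 1
      rw [inv_pow_eq, hm, ← map_pow, ← map_pow, ← Units.val_pow_eq_pow_val, ← Units.val_pow_eq_pow_val]
      congr 2
      exact pow_eq_pow_iff_modEq.2 (((Nat.mod_modEq _ _).symm).of_dvd (orderOf_dvd_of_pow_eq_one
        (ZMod.units_pow_card_sub_one_eq_one p _)))
    · rw [app_mul, app_dT_inv]
      have := app_sect w.2
      simp only [app, mul_zero, zero_add, mul_one] at this ⊢
      rw [hw']
      exact Prod.ext ((mul_comm _ _).trans (congrArg ((x : ZMod p) * ·) (congrArg Prod.fst this)))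
        ((mul_comm _ _).trans (congrArg ((x : ZMod p) * ·) (congrArg Prod.snd this)))
  set A := φ ⟨(0, 1), fun h => one_ne_zero (congrArg Prod.snd h)⟩ with hA
  set B := φ ⟨(1, 0), fun h => one_ne_zero (congrArg Prod.fst h)⟩ with hBdef
  have hval : ∀ w : Pt p, φ w = if w.1.2 = 0 then B * ι w.1.1 ^ m else A * ι w.1.2 ^ m := by
    intro w
    by_cases hy : w.1.2 = 0
    · rw [if_pos hy]
      have hx : w.1.1 ≠ 0 := fun e => w.2 (Prod.ext e hy)
      rw [hscale (Units.mk0 _ hx) ⟨(1, 0), fun h => one_ne_zero (congrArg Prod.fst h)⟩ w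
        (Prod.ext (by simp) (by simp [hy])), hBdef, mul_comm]
      rfl
    · rw [if_neg hy]
      rw [hshift (w.1.1 * w.1.2⁻¹) ⟨(0, w.1.2), fun h => hy (congrArg Prod.snd h)⟩ w
        (Prod.ext (by simp [mul_assoc, inv_mul_cancel₀ hy]) rfl)]
      rw [hscale (Units.mk0 _ hy) ⟨(0, 1), fun h => one_ne_zero (congrArg Prod.snd h)⟩ _
        (Prod.ext (by simp) (by simp)), hA, mul_comm]
      rfl
  set a' : K := (-1) ^ m * B - (if m = 0 then A else 0) with ha'
  have hφ0 : φ ≠ 0 := fun e => hv0 (hΦinj (by rw [map_zero]; exact e))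
  by_cases hz : a' = 0
  · -- the constant case
    by_cases hm0 : m = 0
    · have hAB : B = A := by
        rw [ha', hm0, pow_zero, one_mul, if_pos rfl, sub_eq_zero] at hz
        exact hz
      have hA0 : A ≠ 0 := fun e => hφ0 (funext fun w => by rw [hval, hAB, e]; simp)
      refine ⟨0, Φ, by omega, hΦinj, hequiv, (model_of_mem ρ hsimp hp Φ hequiv (by omega) hA0
        (v := v₀) ?_).2⟩
      funext w
      show φ w = _
      rw [hval, hAB, hm0]
      simp [mon_apply]
    · have hB0 : B = 0 := by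
        rw [ha', if_neg hm0, sub_zero, mul_eq_zero] at hz
        exact hz.resolve_left (pow_ne_zero _ (neg_ne_zero.2 one_ne_zero))
      have hA0 : A ≠ 0 := fun e => hφ0 (funext fun w => by rw [hval, hB0, e]; simp)
      refine ⟨m, Φ, by omega, hΦinj, hequiv, (model_of_mem ρ hsimp hp Φ hequiv (by omega) hA0
        (v := v₀) ?_).2⟩
      funext w
      show φ w = _
      rw [hval]
      by_cases hy : w.1.2 = 0
      · simp [hy, hB0, mon_apply, zero_pow hm0]
      · simp [hy, mon_apply]
  · -- apply the intertwining operator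
    have hT : tOp φ = a' • mon p K (p - 1 - m) 0 := by
      funext v
      simp only [tOp, LinearMap.coe_mk, AddHom.coe_mk, Pi.smul_apply, smul_eq_mul]
      rw [← Finset.sum_filter, mon_apply, pow_zero, one_mul, Nat.sub_zero]
      by_cases hv2 : v.1.2 = 0
      · have hv1' : v.1.1 ≠ 0 := fun e => v.2 (Prod.ext e hv2)
        rw [hv2, map_zero, zero_pow (by omega), mul_zero,
          Finset.sum_nbij' (t := (Finset.univ : Finset (ZMod p)))
            (g := fun _ => A * ι v.1.1⁻¹ ^ m)
            (fun x => x.1.1) (fun t => ⟨(t, v.1.1⁻¹), fun h => inv_ne_zero hv1' (congrArg Prod.snd h)⟩)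
            (by simp) ?_ ?_ ?_ ?_, Finset.sum_const, Finset.card_univ, ZMod.card]
        · rw [nsmul_eq_mul, CharP.cast_eq_zero, zero_mul]
        · intro t _
          simp [mul_inv_cancel₀ hv1']
        · intro x hx
          rw [Finset.mem_filter, zero_mul, sub_zero] at hx
          exact Subtype.ext (Prod.ext rfl (eq_inv_of_mul_eq_one_right hx.2).symm)
        · intro t _; rfl
        · intro x hx
          rw [Finset.mem_filter, zero_mul, sub_zero] at hx
          have e : x.1.2 = v.1.1⁻¹ := eq_inv_of_mul_eq_one_right hx.2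
          rw [hval, if_neg (by rw [e]; exact inv_ne_zero hv1'), e]
      · rw [Finset.sum_nbij' (t := (Finset.univ : Finset (ZMod p)))
            (g := fun t => if t = 0 then B * ι (-v.1.2⁻¹) ^ m else A * ι t ^ m)
            (fun x => x.1.2) (fun t => ⟨((v.1.1 * t - 1) * v.1.2⁻¹, t), fun h => by
              obtain ⟨h1, h2⟩ := Prod.mk_inj.1 h
              rw [h2, mul_zero, zero_sub, neg_one_mul, neg_eq_zero, inv_eq_zero] at h1
              exact hv2 h1⟩) (by simp) ?_ ?_ ?_ ?_]
        · rw [← Finset.add_sum_erase _ _ (Finset.mem_univ (0 : ZMod p)), if_pos rfl,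
            Finset.sum_congr rfl (g := fun t => A * ι t ^ m) fun t ht => if_neg (Finset.mem_erase.1 ht).1,
            ← Finset.mul_sum]
          have hs : ∑ t ∈ (Finset.univ : Finset (ZMod p)).erase 0, ι t ^ m =
              if m = 0 then -1 else 0 := by
            have h := sum_units_pow (K := K) (p := p) m
            have hd : (p - 1 ∣ m) ↔ m = 0 := ⟨fun h => Nat.eq_zero_of_dvd_of_lt h hmlt, fun h => h ▸ dvd_zero _⟩
            simp only [hd] at h
            rw [← h]
            refine (Finset.sum_bij' (fun (x : (ZMod p)ˣ) _ => (x : ZMod p))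
              (fun t ht => Units.mk0 t (Finset.mem_erase.1 ht).1) ?_ ?_ ?_ ?_ ?_).symm
            · intro x _; simp
            · intro t ht; exact Finset.mem_univ _
            · intro x _; exact Units.ext rfl
            · intro t ht; rfl
            · intro x _; rfl
          rw [hs, ha']
          have hpow : ι (-v.1.2⁻¹) ^ m = (-1) ^ m * ι v.1.2 ^ (p - 1 - m) := by
            rw [map_neg, neg_pow, map_inv₀, inv_pow]
            congr 1
            refine inv_eq_of_mul_eq_one_right ?_
            rw [← pow_add, show m + (p - 1 - m) = p - 1 by omega, ← map_pow,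
              ZMod.pow_card_sub_one_eq_one hv2, map_one]
          rw [hpow]
          split
          · next h =>
            rw [h, Nat.sub_zero, ← map_pow, ZMod.pow_card_sub_one_eq_one hv2, map_one]
            ring
          · ring
        · intro t _
          simp only [Finset.mem_filter, Finset.mem_univ, true_and]
          field_simp
          ring
        · intro x hx
          rw [Finset.mem_filter] at hx
          refine Subtype.ext (Prod.ext ?_ rfl)
          show (v.1.1 * x.1.2 - 1) * v.1.2⁻¹ = x.1.1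
          field_simp
          linear_combination hx.2
        · intro t _; rfl
        · intro x hx
          rw [Finset.mem_filter] at hx
          rw [hval]
          by_cases h0 : x.1.2 = 0
          · rw [if_pos h0, if_pos h0]
            congr 3
            rw [h0, mul_zero, zero_sub] at hx
            rw [eq_neg_iff_add_eq_zero]
            field_simp
            linear_combination -hx.2
          · rw [if_neg h0, if_neg h0]
    have hTeq : ∀ g v, (tOp ∘ₗ Φ) (ρ g v) = fnRep p K g ((tOp ∘ₗ Φ) v) := fun g v => by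
      rw [LinearMap.comp_apply, LinearMap.comp_apply, hequiv, tOp_comm]
    have h := model_of_mem ρ hsimp hp (tOp ∘ₗ Φ) hTeq (n := p - 1 - m) (by omega) hz (v := v₀) hT
    exact ⟨p - 1 - m, tOp ∘ₗ Φ, by omega, h.1, hTeq, h.2⟩

end Cfsg.Agent.FixDim
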