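import Mathlib
import Cfsg.Agent.Lib.FixDim.Model

/-!
# `SL₂(p)` in its own characteristic

A linear inequality between fixed dimensions, weight multiplicities and ranks of powers of the raising
element holds for every module, since it holds for the homogeneous functions of each degree.
-/

set_option autoImplicit false

namespace Cfsg.Agent.FixDim

open Module LinearMap Finset
open scoped MatrixGroups

universe v

variable {p : ℕ} [Fact p.Prime] {K : Type*} [Field K] [CharP K p]

local notation "ι" => emb (p := p) K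

/-- A weighted sum of ranks. -/
def wsum {X : Type*} (L : List (ℕ × X)) (r : X → ℕ) : ℕ := (L.map fun q => q.1 * r q.2).sum

variable (K) in
/-- The rank on the module of homogeneous functions. -/
noncomputable def rkP (n : ℕ) (x : MonoidAlgebra K SL(2, ZMod p)) : ℕ :=
  finrank K ((Pn p K n).map (act (fnRep p K) x) : Submodule K (Pt p → K))

omit [CharP K p] in
theorem wsum_sub_add_quot {V : Type v} [AddCommGroup V] [Module K V] [FiniteDimensional K V]
    (ρ : Representation K SL(2, ZMod p) V) (S : Submodule K V) (h : ∀ g, ∀ w ∈ S, ρ g w ∈ S)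
    (L : List (ℕ × MonoidAlgebra K SL(2, ZMod p))) :
    wsum L (rk (subRep ρ S h)) + wsum L (rk (quotRep ρ S h)) ≤ wsum L (rk ρ) := by
  induction L with
  | nil => simp [wsum]
  | cons q L ih =>
    simp only [wsum, List.map_cons, List.sum_cons] at *
    have := Nat.mul_le_mul_left q.1 (rk_sub_add_quot_le ρ S h q.2)
    rw [mul_add] at this
    omega

omit [CharP K p] in
theorem wsum_idem_eq {V : Type v} [AddCommGroup V] [Module K V] [FiniteDimensional K V]
    (ρ : Representation K SL(2, ZMod p) V) (S : Submodule K V) (h : ∀ g, ∀ w ∈ S, ρ g w ∈ S)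
    (L : List (ℕ × MonoidAlgebra K SL(2, ZMod p))) (hL : ∀ q ∈ L, q.2 * q.2 = q.2) :
    wsum L (rk (subRep ρ S h)) + wsum L (rk (quotRep ρ S h)) = wsum L (rk ρ) := by
  induction L with
  | nil => simp [wsum]
  | cons q L ih =>
    have ih' := ih fun x hx => hL x (List.mem_cons_of_mem _ hx)
    simp only [wsum, List.map_cons, List.sum_cons] at *
    rw [← rk_idem_eq ρ S h (hL q (List.mem_cons_self ..)), mul_add]
    omega

/-- An inequality true on homogeneous functions is true everywhere. -/
theorem rank_bound (hp : p ≠ 2) (P N : List (ℕ × MonoidAlgebra K SL(2, ZMod p)))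
    (hN : ∀ q ∈ N, q.2 * q.2 = q.2)
    (hmod : ∀ n ≤ p - 1, n + 1 + wsum N (rkP K n) ≤ wsum P (rkP K n)) :
    ∀ (d : ℕ) (V : Type v) [AddCommGroup V] [Module K V] [FiniteDimensional K V]
      (ρ : Representation K SL(2, ZMod p) V),
      finrank K V = d → d + wsum N (rk ρ) ≤ wsum P (rk ρ) := by
  intro d
  induction d using Nat.strong_induction_on with
  | _ d ih =>
    intro V _ _ _ ρ hd
    classical
    rcases Nat.eq_zero_or_pos d with rfl | hd0
    · have hz : ∀ x, rk ρ x = 0 := fun x =>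
        Nat.le_zero.1 ((Submodule.finrank_le _).trans hd.le)
      have hz' : ∀ L : List (ℕ × MonoidAlgebra K SL(2, ZMod p)), wsum L (rk ρ) = 0 := fun L => by
        induction L with
        | nil => rfl
        | cons q L ih =>
          simp only [wsum, List.map_cons, List.sum_cons] at *
          rw [hz, ih, mul_zero]
      simp [hz']
    have hex : ∃ k, ∃ S : Submodule K V, IsInv ρ S ∧ S ≠ ⊥ ∧ finrank K S = k :=
      ⟨_, ⊤, fun g w _ => Submodule.mem_top, fun e => by
        have := finrank_top K V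
        rw [e, finrank_bot] at this
        omega, rfl⟩
    obtain ⟨S, hS, hS0, hSk⟩ := Nat.find_spec hex
    haveI : Nontrivial S := Submodule.nontrivial_iff_ne_bot.2 hS0
    have hsimp : ∀ W : Submodule K S, IsInv (subRep ρ S hS) W → W = ⊥ ∨ W = ⊤ := by
      intro W hW
      by_contra hne
      rw [not_or] at hne
      have hinv : IsInv ρ (W.map S.subtype) := by
        rintro g _ ⟨w, hw, rfl⟩
        exact ⟨_, hW g w hw, rfl⟩
      have hne0 : W.map S.subtype ≠ ⊥ := fun e => hne.1 (by
        rw [← Submodule.comap_map_eq_of_injective S.injective_subtype W, e, Submodule.comap_bot,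
          Submodule.ker_subtype])
      have h1 := Nat.find_min' hex ⟨_, hinv, hne0, rfl⟩
      rw [Submodule.finrank_map_subtype_eq, ← hSk] at h1
      exact absurd (Submodule.eq_top_of_finrank_eq (le_antisymm (Submodule.finrank_le W) h1)) hne.2
    obtain ⟨n, L, hn, hinj, hL, hrange⟩ := exists_model (subRep ρ S hS) hsimp hp
    have hdim : finrank K S = n + 1 := by
      rw [← LinearMap.finrank_range_of_inj hinj, hrange, finrank_Pn hn]
    have hrk : rk (subRep ρ S hS) = rkP K n := funext fun x => by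
      rw [rk_eq_map L hL hinj, hrange, rkP]
    have h1 := hmod n hn
    rw [← hrk] at h1
    have hq := S.finrank_quotient_add_finrank
    have h2 := ih (finrank K (V ⧸ S)) (by omega) (V ⧸ S) (quotRep ρ S hS) rfl
    have h3 := wsum_sub_add_quot ρ S hS P
    have h4 := wsum_idem_eq ρ S hS N hN
    omega

/-! ### Ranks on homogeneous functions -/

theorem rkP_wel {n : ℕ} (hn : n ≤ p - 1) (μ : ℕ) :
    rkP K n (wel K μ : MonoidAlgebra K SL(2, ZMod p)) =
      ((Finset.range (n + 1)).filter fun i => n - i ≡ i + μ [MOD p - 1]).card := by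
  classical
  set s : Finset (Fin (n + 1)) := Finset.univ.filter fun i => n - (i : ℕ) ≡ (i : ℕ) + μ [MOD p - 1]
  have h : (Pn p K n).map (act (fnRep p K) (wel K μ)) =
      Submodule.span K ((fun i : Fin (n + 1) => mon p K n i) '' (s : Set (Fin (n + 1)))) := by
    rw [Pn, hsp, Submodule.map_span]
    refine le_antisymm (Submodule.span_le.2 ?_) (Submodule.span_mono ?_)
    · rintro _ ⟨_, ⟨i, rfl⟩, rfl⟩
      show act (fnRep p K) (wel K μ) (mon p K n i) ∈ _
      rw [wel_mon]
      split
      · next h => exact Submodule.subset_span ⟨i, by simp [s, h], rfl⟩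
      · exact zero_mem _
    · rintro _ ⟨i, hi, rfl⟩
      refine ⟨_, ⟨i, rfl⟩, ?_⟩
      show act (fnRep p K) (wel K μ) (mon p K n i) = _
      rw [wel_mon, if_pos (by simpa [s] using hi)]
  rw [rkP, h, finrank_span_mon hn]
  refine Finset.card_bij (fun i _ => (i : ℕ)) ?_ ?_ ?_
  · intro i hi
    simp only [s, Finset.mem_filter, Finset.mem_univ, true_and] at hi
    exact Finset.mem_filter.2 ⟨Finset.mem_range.2 i.2, hi⟩
  · exact fun a _ b _ e => Fin.ext e
  · intro i hi
    rw [Finset.mem_filter, Finset.mem_range] at hi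
    exact ⟨⟨i, hi.1⟩, by simp [s, hi.2], rfl⟩

theorem eOp_pow_mon {n i : ℕ} (hi : i ≤ n) (hn : n ≤ p - 1) (hp : p ≠ 2) (j : ℕ) :
    (eOp (fnRep p K) ^ j) (mon p K n i) = (i.descFactorial j : K) • mon p K n (i - j) := by
  induction j with
  | zero => simp
  | succ j ih =>
    rw [pow_succ', Module.End.mul_apply, ih, map_smul, eOp_mon (by omega) hn hp, smul_smul,
      Nat.descFactorial_succ, Nat.cast_mul, mul_comm, Nat.sub_sub]

theorem rkP_pow {n : ℕ} (hn : n ≤ p - 1) (hp : p ≠ 2) (j μ : ℕ) :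
    ((Finset.range (n + 1)).filter fun i => j ≤ i ∧ n - i ≡ i + μ [MOD p - 1]).card ≤
      rkP K n (eel K ^ j * wel K μ : MonoidAlgebra K SL(2, ZMod p)) := by
  classical
  set T := (Finset.range (n + 1)).filter fun i => j ≤ i ∧ n - i ≡ i + μ [MOD p - 1] with hT
  set s : Finset (Fin (n + 1)) := Finset.univ.filter fun k => (k : ℕ) + j ∈ T with hs
  have hle : Submodule.span K ((fun i : Fin (n + 1) => mon p K n i) '' (s : Set (Fin (n + 1)))) ≤
      (Pn p K n).map (act (fnRep p K) (eel K ^ j * wel K μ)) := by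
    rw [Submodule.span_le]
    rintro _ ⟨k, hk, rfl⟩
    simp only [hs, hT, Finset.coe_filter, Set.mem_setOf_eq, Finset.mem_univ, true_and,
      Finset.mem_filter, Finset.mem_range] at hk
    obtain ⟨hk1, -, hk2⟩ := hk
    have hne : (((k : ℕ) + j).descFactorial j : K) ≠ 0 := by
      rw [Ne, CharP.cast_eq_zero_iff K p]
      intro h
      have h' : p ∣ ((k : ℕ) + j).factorial := by
        rw [← Nat.factorial_mul_descFactorial (show j ≤ (k : ℕ) + j by omega)]
        exact h.mul_left _
      have := ((Fact.out : p.Prime).dvd_factorial).1 h'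
      have := (Fact.out : p.Prime).two_le
      omega
    refine ⟨((((k : ℕ) + j).descFactorial j : K))⁻¹ • mon p K n ((k : ℕ) + j),
      Submodule.smul_mem _ _ (mem_hsp (by omega)), ?_⟩
    rw [map_smul, act_mul, Module.End.mul_apply, wel_mon, if_pos hk2, act_pow, ← eOp,
      eOp_pow_mon (by omega) hn hp, smul_smul, inv_mul_cancel₀ hne, one_smul, Nat.add_sub_cancel]
  refine le_trans ?_ (Submodule.finrank_mono hle)
  rw [finrank_span_mon hn]
  refine le_of_eq (Finset.card_bij (fun i hi => (⟨i - j, by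
    rw [hT, Finset.mem_filter, Finset.mem_range] at hi; omega⟩ : Fin (n + 1))) ?_ ?_ ?_)
  · intro i hi
    have hi' := hi
    rw [hT, Finset.mem_filter] at hi'
    rw [hs, Finset.mem_filter]
    exact ⟨Finset.mem_univ _, by show i - j + j ∈ T; rw [Nat.sub_add_cancel hi'.2.1]; exact hi⟩
  · intro a ha b hb e
    rw [hT, Finset.mem_filter] at ha hb
    have := congrArg Fin.val e
    simp only at this
    omega
  · intro k hk
    rw [hs, Finset.mem_filter] at hk
    exact ⟨(k : ℕ) + j, hk.2, Fin.ext (Nat.add_sub_cancel ..)⟩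

theorem rkP_nel {n : ℕ} (hn : n ≤ p - 1) (hp3 : p ≠ 3) {ω : K} (hω : ω ^ 2 + ω + 1 = 0) :
    ((Finset.range (n + 1)).filter fun i => 3 ∣ n + i).card ≤
      rkP K n (nel K : MonoidAlgebra K SL(2, ZMod p)) := by
  classical
  have h3 : (3 : K) ≠ 0 := by
    rw [show (3 : K) = ((3 : ℕ) : K) by norm_num, Ne, CharP.cast_eq_zero_iff K p]
    exact fun h => hp3 ((Nat.prime_dvd_prime_iff_eq Fact.out Nat.prime_three).1 h)
  have hω3 : ω ^ 3 = 1 := by linear_combination (ω - 1) * hω
  have hne : ω ^ 2 - ω ≠ 0 := fun e => by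
    apply h3
    have h1 : 2 * ω + 1 = 0 := by linear_combination hω - e
    linear_combination 4 * hω - (2 * ω + 1) * h1
  set ξ : Pt p → K := px p K + ω • py p K with hξ
  set η : Pt p → K := px p K + ω ^ 2 • py p K with hη
  have hmem : ∀ a : K, px p K + a • py p K ∈ Submodule.span K ({px p K, py p K} : Set (Pt p → K)) :=
    fun a => Submodule.mem_span_pair.2 ⟨1, a, by rw [one_smul]⟩
  have hspan : Pn p K n = hsp ξ η n := by
    refine le_antisymm (hsp_le ?_ ?_ n) (hsp_le (hmem ω) (hmem _) n)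
    · refine Submodule.mem_span_pair.2 ⟨ω ^ 2 * (ω ^ 2 - ω)⁻¹, -ω * (ω ^ 2 - ω)⁻¹, funext fun w => ?_⟩
      simp only [hξ, hη, Pi.add_apply, Pi.smul_apply, smul_eq_mul]
      linear_combination (px p K w) * (mul_inv_cancel₀ hne)
    · refine Submodule.mem_span_pair.2 ⟨-(ω ^ 2 - ω)⁻¹, (ω ^ 2 - ω)⁻¹, funext fun w => ?_⟩
      simp only [hξ, hη, Pi.add_apply, Pi.smul_apply, smul_eq_mul]
      linear_combination (py p K w) * (mul_inv_cancel₀ hne)
  have hli : LinearIndependent K (fun i : Fin (n + 1) => ξ ^ (i : ℕ) * η ^ (n - (i : ℕ))) := by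
    rw [linearIndependent_iff_card_eq_finrank_span, Set.finrank, Fintype.card_fin]
    show n + 1 = finrank K (hsp ξ η n)
    rw [← hspan, finrank_Pn hn]
  have hinv : (sThree (ZMod p))⁻¹ = mk2 (-1) 1 (-1) 0 (by ring) := inv_eq_of_mul_eq_one_right (by
    rw [sThree, comp2, mk2_mul, one_eq_mk2]
    exact mk2_congr (by ring) (by ring) (by ring) (by ring))
  have hlin := fnRep_lin (K := K) (sThree (ZMod p))
  rw [hinv] at hlin
  simp only [mk2_00, mk2_01, mk2_10, mk2_11, map_neg, map_one, map_zero, one_smul, zero_smul,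
    add_zero, neg_smul] at hlin
  have hξs : fnRep p K (sThree _) ξ = ω ^ 2 • ξ := by
    rw [hξ, map_add, map_smul, hlin.1, hlin.2]
    funext w
    simp only [Pi.add_apply, Pi.smul_apply, Pi.neg_apply, smul_eq_mul]
    linear_combination (-px p K w) * hω - (py p K w) * hω3
  have hηs : fnRep p K (sThree _) η = ω • η := by
    rw [hη, map_add, map_smul, hlin.1, hlin.2]
    funext w
    simp only [Pi.add_apply, Pi.smul_apply, Pi.neg_apply, smul_eq_mul]
    linear_combination (-px p K w) * hω - (py p K w) * hω3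
  set s : Finset (Fin (n + 1)) := Finset.univ.filter fun i => 3 ∣ n + (i : ℕ)
  have hle : Submodule.span K
      ((fun i : Fin (n + 1) => ξ ^ (i : ℕ) * η ^ (n - (i : ℕ))) '' (s : Set (Fin (n + 1)))) ≤
      (Pn p K n).map (act (fnRep p K) (nel K)) := by
    rw [Submodule.span_le]
    rintro _ ⟨i, hi, rfl⟩
    simp only [s, Finset.coe_filter, Set.mem_setOf_eq, Finset.mem_univ, true_and] at hi
    set F := ξ ^ (i : ℕ) * η ^ (n - (i : ℕ)) with hF
    have hFs : fnRep p K (sThree _) F = F := by
      rw [hF, fnRep_mulFn, fnRep_powFn, fnRep_powFn, hξs, hηs, smul_pow, smul_pow, smul_mul_smul,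
        ← pow_mul, ← pow_add]
      obtain ⟨k, hk⟩ := hi
      rw [show 2 * (i : ℕ) + (n - (i : ℕ)) = 3 * k by have := i.2; omega, pow_mul, hω3, one_pow,
        one_smul]
    refine ⟨(3 : K)⁻¹ • F, Submodule.smul_mem _ _ (hspan.ge (mem_hsp (by omega))), ?_⟩
    rw [map_smul]
    simp only [nel, act, map_add, map_one, Representation.asAlgebraHom_single, one_smul,
      LinearMap.add_apply, Module.End.one_apply, rho_mul_apply, hFs]
    rw [← two_smul K F, show (2 : K) • F + F = (3 : K) • F by module, smul_smul, inv_mul_cancel₀ h3,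
      one_smul]
  refine le_trans ?_ (Submodule.finrank_mono hle)
  rw [Set.image_eq_range, finrank_span_eq_card (R := K) (b := fun x : (s : Set (Fin (n + 1))) =>
    ξ ^ ((x : Fin (n + 1)) : ℕ) * η ^ (n - ((x : Fin (n + 1)) : ℕ)))
    (hli.comp _ Subtype.val_injective)]
  refine le_trans ?_ (le_of_eq (Fintype.card_coe s).symm)
  refine le_of_eq (Finset.card_bij (fun i hi => (⟨i, by
    rw [Finset.mem_filter, Finset.mem_range] at hi; omega⟩ : Fin (n + 1))) ?_ ?_ ?_)
  · intro i hi
    exact Finset.mem_filter.2 ⟨Finset.mem_univ _, (Finset.mem_filter.1 hi).2⟩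
  · exact fun a _ b _ e => congrArg Fin.val e
  · intro k hk
    exact ⟨(k : ℕ), Finset.mem_filter.2 ⟨Finset.mem_range.2 k.2, (Finset.mem_filter.1 hk).2⟩, rfl⟩

/-! ### Counting -/

theorem card_three (n : ℕ) :
    (n + 3 - 2 * n % 3) / 3 ≤ ((Finset.range (n + 1)).filter fun i => 3 ∣ n + i).card := by
  refine le_trans (le_of_eq (Finset.card_range _).symm) (Finset.card_le_card_of_injOn
    (fun k => 2 * n % 3 + 3 * k) ?_ ?_)
  · intro k hk
    simp only [Finset.coe_range, Set.mem_Iio] at hk
    simp only [Finset.coe_filter, Finset.mem_range, Set.mem_setOf_eq]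
    omega
  · intro a _ b _ e
    simp only at e
    omega

theorem weight_cases {q n i μ : ℕ} (hn : n ≤ q) (hi : i ≤ n) (hμ1 : 1 ≤ μ) (hμ : μ < q)
    (h : n - i ≡ i + μ [MOD q]) : 2 * i + μ = n ∨ 2 * i + μ = n + q := by
  unfold Nat.ModEq at h
  rcases Nat.lt_or_ge (n - i) q with h1 | h1
  · rw [Nat.mod_eq_of_lt h1] at h
    rcases Nat.lt_or_ge (i + μ) q with h2 | h2
    · rw [Nat.mod_eq_of_lt h2] at h; omega
    · rw [Nat.mod_eq_sub_mod h2, Nat.mod_eq_of_lt (by omega)] at h; omega
  · rw [show n - i = q by omega, Nat.mod_self, show i = 0 by omega, zero_add, Nat.mod_eq_of_lt hμ] at h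
    omega

/-- The arithmetical heart. -/
theorem count_bound {q n : ℕ} (hq : 16 ≤ q) (hq2 : 2 ∣ q) (hn : n ≤ q) :
    n + 1 + 2 * ((Finset.range (n + 1)).filter fun i => n - i ≡ i + 3 [MOD q]).card +
        ((Finset.range (n + 1)).filter fun i => n - i ≡ i + 6 [MOD q]).card ≤
      4 * ((Finset.range (n + 1)).filter fun i => 3 ∣ n + i).card +
        2 * ((Finset.range (n + 1)).filter fun i => n - i ≡ i + 1 [MOD q]).card +
        ((Finset.range (n + 1)).filter fun i => n - i ≡ i + 2 [MOD q]).card := by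
  classical
  have hc := card_three n
  have up : ∀ μ, 1 ≤ μ → μ ≤ 6 →
      ((Finset.range (n + 1)).filter fun i => n - i ≡ i + μ [MOD q]).card ≤
        (if n % 2 = μ % 2 then 1 else 0) *
          ((if μ ≤ n then 1 else 0) + (if q ≤ n + μ then 1 else 0)) := by
    intro μ hμ1 hμ6
    have hsub : (Finset.range (n + 1)).filter (fun i => n - i ≡ i + μ [MOD q]) ⊆
        (Finset.range (n + 1)).filter (fun i => 2 * i + μ = n) ∪
          (Finset.range (n + 1)).filter (fun i => 2 * i + μ = n + q) := by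
      intro i hi
      rw [Finset.mem_filter, Finset.mem_range] at hi
      rw [Finset.mem_union, Finset.mem_filter, Finset.mem_filter, Finset.mem_range]
      rcases weight_cases hn (by omega) hμ1 (by omega) hi.2 with e | e
      · exact Or.inl ⟨hi.1, e⟩
      · exact Or.inr ⟨hi.1, e⟩
    refine le_trans ((Finset.card_le_card hsub).trans (Finset.card_union_le _ _)) ?_
    have hone : ∀ t : ℕ, ((Finset.range (n + 1)).filter fun i => 2 * i + μ = t).card ≤ 1 := fun t =>
      Finset.card_le_one.2 fun a ha b hb => by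
        rw [Finset.mem_filter] at ha hb; omega
    have hzero : ∀ t : ℕ, (t % 2 ≠ μ % 2 ∨ t < μ ∨ 2 * n + μ < t) →
        ((Finset.range (n + 1)).filter fun i => 2 * i + μ = t).card = 0 := fun t ht =>
      Finset.card_eq_zero.2 (Finset.filter_eq_empty_iff.2 fun i hi => by
        rw [Finset.mem_range] at hi; omega)
    have h1 := hone n
    have h2 := hone (n + q)
    have z1 := hzero n
    have z2 := hzero (n + q)
    have d1 : n % 2 = (n + q) % 2 := by omega
    split_ifs <;> omega
  have low : ∀ μ, 1 ≤ μ → μ ≤ 2 → n % 2 = μ % 2 → μ ≤ n →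
      1 + (if q ≤ n + μ ∧ n < q + μ then 1 else 0) ≤
        ((Finset.range (n + 1)).filter fun i => n - i ≡ i + μ [MOD q]).card + 0 := by
    intro μ hμ1 hμ2 hpar hle
    have ha : (n - μ) / 2 ∈ (Finset.range (n + 1)).filter fun i => n - i ≡ i + μ [MOD q] := by
      rw [Finset.mem_filter, Finset.mem_range]
      refine ⟨by omega, ?_⟩
      rw [show n - (n - μ) / 2 = (n - μ) / 2 + μ by omega]
    split_ifs with hb
    · have hb' : (n + q - μ) / 2 ∈ (Finset.range (n + 1)).filter fun i => n - i ≡ i + μ [MOD q] := by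
        rw [Finset.mem_filter, Finset.mem_range]
        refine ⟨by omega, ?_⟩
        rw [show (n + q - μ) / 2 + μ = n - (n + q - μ) / 2 + q by omega]
        unfold Nat.ModEq
        rw [Nat.add_mod_right]
      have := Finset.one_lt_card.2 ⟨_, ha, _, hb', by omega⟩
      omega
    · have := Finset.card_pos.2 ⟨_, ha⟩
      omega
  have u3 := up 3 (by omega) (by omega)
  have u6 := up 6 (by omega) (by omega)
  rcases Nat.mod_two_eq_zero_or_one n with hpar | hpar
  · rw [if_neg (by omega)] at u3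
    rw [if_pos (by omega)] at u6
    by_cases h2 : 2 ≤ n
    · have l2 := low 2 (by omega) (by omega) (by omega) h2
      split_ifs at u6 l2 <;> omega
    · split_ifs at u6 <;> omega
  · rw [if_neg (by omega : ¬ n % 2 = 6 % 2)] at u6
    rw [if_pos (by omega)] at u3
    have l1 := low 1 (by omega) (by omega) (by omega) (by omega)
    split_ifs at u3 l1 <;> omega

/-! ### Kernels along weight chains -/

section Chains

variable {V : Type v} [AddCommGroup V] [Module K V] [FiniteDimensional K V]
  (ρ : Representation K SL(2, ZMod p) V)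

/-- The kernel of the raising operator in one weight. -/
noncomputable def kap (μ : ℕ) : ℕ := finrank K (wSp ρ μ ⊓ ker (eOp ρ) : Submodule K V)

theorem kap_congr {μ ν : ℕ} (h : μ ≡ ν [MOD p - 1]) : kap ρ μ = kap ρ ν := by
  rw [kap, kap, wSp_congr ρ h]

theorem map_one_wSp_le (μ : ℕ) : (wSp ρ μ).map (eOp ρ) ≤ wSp ρ (μ + 2) := by
  have := map_wSp_le ρ μ 1
  simpa using this

theorem finrank_ker_chain (j μ : ℕ) :
    finrank K (wSp ρ μ ⊓ ker (eOp ρ ^ j) : Submodule K V) ≤
      ∑ i ∈ Finset.range j, kap ρ (μ + 2 * i) := by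
  induction j generalizing μ with
  | zero => simp [Module.End.one_eq_id, LinearMap.ker_id]
  | succ j ih =>
    rw [finrank_eq_map_add_inf (eOp ρ), Finset.sum_range_succ', Nat.mul_zero, Nat.add_zero]
    refine Nat.add_le_add (le_trans (Submodule.finrank_mono ?_) (le_trans (ih (μ + 2)) (le_of_eq ?_)))
      (Submodule.finrank_mono fun v hv => ⟨hv.1.1, hv.2⟩)
    · rintro _ ⟨v, ⟨hv1, hv2⟩, rfl⟩
      refine ⟨map_one_wSp_le ρ μ ⟨v, hv1, rfl⟩, ?_⟩
      rw [SetLike.mem_coe, LinearMap.mem_ker] at hv2 ⊢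
      rwa [← Module.End.mul_apply, ← pow_succ]
    · exact Finset.sum_congr rfl fun i _ => by rw [show μ + 2 + 2 * i = μ + 2 * (i + 1) by omega]

theorem wSp_le_add_ker (μ j : ℕ) :
    rk ρ (wel K μ) ≤ rk ρ (wel K (μ + 2 * j)) + ∑ i ∈ Finset.range j, kap ρ (μ + 2 * i) := by
  show finrank K (wSp ρ μ) ≤ finrank K (wSp ρ (μ + 2 * j)) + _
  rw [finrank_eq_map_add_inf (eOp ρ ^ j)]
  exact Nat.add_le_add (Submodule.finrank_mono (map_wSp_le ρ μ j)) (finrank_ker_chain ρ j μ)

end Chains

variable {V : Type v} [AddCommGroup V] [Module K V] [FiniteDimensional K V]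

theorem rk_nel_le (ρ : Representation K SL(2, ZMod p) V) : rk ρ (nel K) ≤ fdim ρ (sThree _) := by
  refine Submodule.finrank_mono ?_
  rintro _ ⟨v, rfl⟩
  rw [mem_fixSp]
  simp only [nel, act, map_add, map_one, Representation.asAlgebraHom_single, one_smul,
    LinearMap.add_apply, Module.End.one_apply, ← rho_mul_apply, mul_assoc]
  rw [show sThree (ZMod p) * (sThree _ * sThree _) = 1 by rw [← pow_three, sThree_pow], map_one,
    Module.End.one_apply]
  abel

/-- No tight representation in the defining characteristic, for `p ≥ 17`. -/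
theorem not_tight_defining_large (hp : 17 ≤ p) {ω : K} (hω : ω ^ 2 + ω + 1 = 0)
    (ρ : Representation K SL(2, ZMod p) V) : ¬ Tight ρ := by
  intro h
  have hodd := (Fact.out : p.Prime).eq_two_or_odd
  have hb := rank_bound (K := K) (p := p) (by omega)
    [(4, nel K), (2, wel K 1), (1, wel K 2)] [(2, wel K 3), (1, wel K 6)]
    (fun q hq => by
      simp only [List.mem_cons, List.not_mem_nil, or_false] at hq
      rcases hq with rfl | rfl <;> exact wel_idem _)
    (fun n hn => by
      simp only [wsum, List.map_cons, List.map_nil, List.sum_cons, List.sum_nil, rkP_wel hn]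
      have h1 := count_bound (q := p - 1) (by omega) (by omega) hn
      have h2 := rkP_nel (K := K) hn (by omega) hω
      omega)
    _ V ρ rfl
  simp only [wsum, List.map_cons, List.map_nil, List.sum_cons, List.sum_nil] at hb
  have hc := rk_nel_le ρ
  have a1 := wSp_le_add_ker ρ 1 1
  have a2 := wSp_le_add_ker ρ 2 2
  simp only [Finset.sum_range_succ, Finset.sum_range_zero, zero_add, Nat.reduceMul, Nat.reduceAdd] at a1 a2
  have hf := finrank_fix_ge (hp := by omega) ρ {1, 2, 4} (by
    intro a ha b hb hab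
    simp only [Finset.mem_insert, Finset.mem_singleton] at ha hb
    exact Nat.ModEq.eq_of_lt_of_lt hab (by omega) (by omega))
  rw [Finset.sum_insert (by simp), Finset.sum_insert (by simp), Finset.sum_singleton] at hf
  change kap ρ 1 + (kap ρ 2 + kap ρ 4) ≤ _ at hf
  have e1 := h (sThree (ZMod p)) sThree_ne_one
  have e2 := h (uT (1 : ZMod p)) (uT_ne_one one_ne_zero)
  omega

/-- No tight representation in characteristic eleven of `SL₂(11)`. -/
theorem not_tight_defining_eleven (hp : p = 11) {ω : K} (hω : ω ^ 2 + ω + 1 = 0)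
    (ρ : Representation K SL(2, ZMod p) V) : ¬ Tight ρ := by
  intro h
  subst hp
  have hb := rank_bound (K := K) (p := 11) (by omega)
    [(4, nel K), (2, eel K ^ 1 * wel K 9), (2, eel K ^ 5 * wel K 3), (2, eel K ^ 4 * wel K 6)]
    [(2, wel K 3), (1, wel K 6)]
    (fun q hq => by
      simp only [List.mem_cons, List.not_mem_nil, or_false] at hq
      rcases hq with rfl | rfl <;> exact wel_idem _)
    (fun n hn => by
      simp only [wsum, List.map_cons, List.map_nil, List.sum_cons, List.sum_nil, rkP_wel hn]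
      have h1 : ∀ m ≤ 10, m + 1 + 2 * ((Finset.range (m + 1)).filter fun i => m - i ≡ i + 3 [MOD 10]).card +
            ((Finset.range (m + 1)).filter fun i => m - i ≡ i + 6 [MOD 10]).card ≤
          4 * ((Finset.range (m + 1)).filter fun i => 3 ∣ m + i).card +
            2 * ((Finset.range (m + 1)).filter fun i => 1 ≤ i ∧ m - i ≡ i + 9 [MOD 10]).card +
            2 * ((Finset.range (m + 1)).filter fun i => 5 ≤ i ∧ m - i ≡ i + 3 [MOD 10]).card +
            2 * ((Finset.range (m + 1)).filter fun i => 4 ≤ i ∧ m - i ≡ i + 6 [MOD 10]).card := by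
        unfold Nat.ModEq
        decide +kernel
      have h1' := h1 n hn
      have h2 := rkP_nel (K := K) hn (by omega) hω
      have h3 := rkP_pow (K := K) hn (by omega) 1 9
      have h4 := rkP_pow (K := K) hn (by omega) 5 3
      have h5 := rkP_pow (K := K) hn (by omega) 4 6
      simp only [show (11 : ℕ) - 1 = 10 from rfl] at h1' h3 h4 h5 ⊢
      omega)
    _ V ρ rfl
  simp only [wsum, List.map_cons, List.map_nil, List.sum_cons, List.sum_nil] at hb
  have hc := rk_nel_le ρ
  set E := eOp ρ with hE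
  have hr : ∀ j μ, rk ρ (eel K ^ j * wel K μ) = finrank K ((wSp ρ μ).map (E ^ j) : Submodule K V) :=
    fun j μ => by rw [rk, hE, map_wSp]
  rw [hr, hr, hr, pow_one] at hb
  have hw : ∀ μ ν, μ ≡ ν [MOD 10] → wSp ρ μ = wSp ρ ν := fun μ ν e => wSp_congr ρ e
  have hk : ∀ μ ν, μ ≡ ν [MOD 10] → kap ρ μ = kap ρ ν := fun μ ν e => kap_congr ρ e
  have hnil : E ^ 11 = 0 := eOp_pow_p ρ (by omega)
  have hle : ∀ j μ ν, μ + 2 * j ≡ ν [MOD 10] → (wSp ρ μ).map (E ^ j) ≤ wSp ρ ν := fun j μ ν e =>
    (map_wSp_le ρ μ j).trans (hw _ _ e).le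
  have hp1 : ∀ S : Submodule K V, (S.map E) = S.map (E ^ 1) := fun S => by rw [pow_one]
  -- the odd chain
  set A := (wSp ρ 9).map E with hA
  have hA1 : A ≤ wSp ρ 1 := by rw [hA, hp1]; exact hle 1 9 1 rfl
  have hI : A.map E ≤ wSp ρ 3 := (Submodule.map_mono hA1).trans (by rw [hp1]; exact hle 1 1 3 rfl)
  have o1 := finrank_eq_map_add_inf E A
  have o1' : finrank K (A ⊓ ker E : Submodule K V) ≤ kap ρ 1 :=
    Submodule.finrank_mono (inf_le_inf_right _ hA1)
  have o2 := finrank_eq_map_add_inf (E ^ 5) (A.map E)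
  have o2' : finrank K (A.map E ⊓ ker (E ^ 5) : Submodule K V) ≤
      finrank K (wSp ρ 3 ⊓ ker (E ^ 5) : Submodule K V) :=
    Submodule.finrank_mono (inf_le_inf_right _ hI)
  have o3 := finrank_eq_map_add_inf (E ^ 5) (wSp ρ 3)
  have o4 : finrank K ((A.map E).map (E ^ 5) : Submodule K V) ≤
      finrank K (wSp ρ 3 ⊓ ker (E ^ 4) : Submodule K V) := by
    refine Submodule.finrank_mono ?_
    rintro _ ⟨w, hw', rfl⟩
    refine ⟨hle 5 3 3 rfl ⟨w, hI hw', rfl⟩, ?_⟩
    obtain ⟨_, ⟨u, -, rfl⟩, rfl⟩ := hw'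
    show (E ^ 4) ((E ^ 5) (E (E u))) = 0
    rw [← Module.End.mul_apply, ← Module.End.mul_apply, ← Module.End.mul_apply, ← pow_add,
      ← pow_succ, ← pow_succ, hnil, LinearMap.zero_apply]
  have o5 := finrank_ker_chain ρ 4 3
  simp only [Finset.sum_range_succ, Finset.sum_range_zero, zero_add, Nat.reduceMul, Nat.reduceAdd] at o5
  -- the even chain
  set B := (wSp ρ 6).map (E ^ 4) with hB
  have hB4 : B ≤ wSp ρ 4 := hle 4 6 4 rfl
  have hG : B.map E ≤ wSp ρ 6 := (Submodule.map_mono hB4).trans (by rw [hp1]; exact hle 1 4 6 rfl)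
  have q1 := finrank_eq_map_add_inf E B
  have q1' : finrank K (B ⊓ ker E : Submodule K V) ≤ kap ρ 4 :=
    Submodule.finrank_mono (inf_le_inf_right _ hB4)
  have hBG : B.map E = (wSp ρ 6).map (E ^ 5) := by
    rw [hB, ← Submodule.map_comp, ← Module.End.mul_eq_comp, ← pow_succ']
  have q2 := finrank_eq_map_add_inf (E ^ 5) (wSp ρ 6)
  have q3 := finrank_eq_map_add_inf (E ^ 5) (B.map E)
  have q3' : finrank K (B.map E ⊓ ker (E ^ 5) : Submodule K V) ≤
      finrank K (wSp ρ 6 ⊓ ker (E ^ 5) : Submodule K V) :=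
    Submodule.finrank_mono (inf_le_inf_right _ hG)
  have q4 : finrank K ((B.map E).map (E ^ 5) : Submodule K V) ≤ kap ρ 6 := by
    refine Submodule.finrank_mono ?_
    rintro _ ⟨w, hw', rfl⟩
    refine ⟨hle 5 6 6 rfl ⟨w, hG hw', rfl⟩, ?_⟩
    rw [hBG] at hw'
    obtain ⟨u, -, rfl⟩ := hw'
    show E ((E ^ 5) ((E ^ 5) u)) = 0
    rw [← Module.End.mul_apply, ← Module.End.mul_apply, ← pow_succ', ← pow_add, hnil,
      LinearMap.zero_apply]
  rw [← hBG] at q2
  have hf := finrank_fix_ge (hp := by omega) ρ {1, 3, 5, 7, 9, 4, 6} (by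
    intro a ha b hb hab
    simp only [Finset.mem_insert, Finset.mem_singleton] at ha hb
    exact Nat.ModEq.eq_of_lt_of_lt hab (by omega) (by omega))
  rw [Finset.sum_insert (by simp), Finset.sum_insert (by simp), Finset.sum_insert (by simp),
    Finset.sum_insert (by simp), Finset.sum_insert (by simp), Finset.sum_insert (by simp),
    Finset.sum_singleton] at hf
  change kap ρ 1 + (kap ρ 3 + (kap ρ 5 + (kap ρ 7 + (kap ρ 9 + (kap ρ 4 + kap ρ 6))))) ≤ _ at hf
  rw [← finrank_wSp, ← finrank_wSp] at hb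
  rw [← hE] at o5
  have e1 := h (sThree (ZMod 11)) sThree_ne_one
  have e2 := h (uT (1 : ZMod 11)) (uT_ne_one one_ne_zero)
  omega

end Cfsg.Agent.FixDim
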