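import Cfsg.Agent.Lib.FixDim.SLTwoMain
import Cfsg.Agent.Lib.ClassSizePSL.Extension
import Cfsg.Agent.Lib.RootSubgroups.DegenerateSpecial
import Cfsg.Agent.Lib.PLocal.Blocks.SL2Facts
import Cfsg.Agent.Lib.PGroups.UniqueSubgroup
import Cfsg.Agent.Lib.Classical.SylowSL2

/-!
# Extensions of `SL₂(p)` with odd kernel have no tight representation
-/

set_option autoImplicit false

namespace Cfsg.Agent.FixDim

open Subgroup
open scoped MatrixGroups commutatorElement

section Aux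

variable {p : ℕ} [Fact p.Prime]

/-- A cyclic subgroup containing a Sylow subgroup for an odd prime. -/
theorem exists_zpowers_index (hp : 7 ≤ p) {w : ℕ} [Fact w.Prime] (hw : w ≠ 2) :
    ∃ k : SL(2, ZMod p), ¬ w ∣ (zpowers k).index := by
  by_cases hwp : w = p
  · subst hwp
    have ho : orderOf (uT (1 : ZMod w)) = w :=
      orderOf_eq_prime (uT_pow_p 1) (uT_ne_one one_ne_zero)
    refine ⟨uT 1, fun hd => ?_⟩
    have h := (zpowers (uT (1 : ZMod w))).card_mul_index
    rw [Nat.card_zpowers, ho, Classical.GL2.natCard_SL_two, ZMod.card] at h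
    rw [Nat.eq_of_mul_eq_mul_left (by omega) h] at hd
    rcases (Fact.out : w.Prime).dvd_mul.1 hd with h' | h'
    · exact absurd (Nat.le_of_dvd (by omega) h') (by omega)
    · have := Nat.le_of_dvd one_pos ((Nat.dvd_add_right (dvd_refl w)).1 h')
      omega
  · obtain ⟨R⟩ : Nonempty (Sylow w SL(2, ZMod p)) := inferInstance
    haveI := Classical.SylowSL2.isCyclic_sylow p w hw hwp R
    obtain ⟨k, hk⟩ := IsCyclic.exists_generator (α := (R : Subgroup SL(2, ZMod p)))
    refine ⟨k, fun hd => R.not_dvd_index (hd.trans ?_)⟩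
    have e : zpowers (k : SL(2, ZMod p)) = (R : Subgroup SL(2, ZMod p)) := by
      refine le_antisymm (zpowers_le.2 k.2) fun x hx => ?_
      obtain ⟨n, hn⟩ := mem_zpowers_iff.1 (hk ⟨x, hx⟩)
      exact mem_zpowers_iff.2 ⟨n, congrArg Subtype.val hn⟩
    rw [e]

/-- Generators of `SL₂(3)` inside `SL₂(p)`. -/
theorem exists_a4 (hp : 7 ≤ p) : ∃ ii jj tt : SL(2, ZMod p), ii * ii = -1 ∧ jj * jj = -1 ∧
    ii * jj = -(jj * ii) ∧ tt * ii = jj * tt ∧ tt * jj = ii * jj * tt ∧ tt ^ 3 = 1 := by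
  have h2 := two_ne_zero_zmod (p := p) (by omega)
  have h3 : (3 : ZMod p) ≠ 0 := by
    exact_mod_cast natCast_ne_zero_zmod (p := p) (n := 3) (by omega) (by omega)
  have hchar : ringChar (ZMod p) ≠ 2 := by rw [ZMod.ringChar_zmod_n]; omega
  set hf : ZMod p := (2 : ZMod p)⁻¹ with hhf
  have hh : 2 * hf = 1 := mul_inv_cancel₀ h2
  obtain ⟨x, y, hxy⟩ := ZMod.sq_add_sq p (-1 : ZMod p)
  set jj : SL(2, ZMod p) := mk2 x y y (-x) (by linear_combination -hxy) with hjj
  set tt : SL(2, ZMod p) := mk2 (-(1 + x - y) * hf) (-(-1 + x + y) * hf) (-(1 + x + y) * hf)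
    (-(1 - x + y) * hf) (by linear_combination (2 * hf + 1) * hh - 2 * hf ^ 2 * hxy) with htt
  refine ⟨iFour _, jj, tt, iFour_sq, ?_, ?_, ?_, ?_, ?_⟩
  · simp only [hjj, mk2_mul, one_eq_mk2, neg_mk2]
    exact mk2_congr (by linear_combination hxy) (by ring) (by ring) (by linear_combination hxy)
  · simp only [iFour, comp2, hjj, mk2_mul, neg_mk2]
    exact mk2_congr (by ring) (by ring) (by ring) (by ring)
  · simp only [htt, iFour, comp2, hjj, mk2_mul]
    exact mk2_congr (by linear_combination hf * hxy) (by linear_combination hf * hxy)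
      (by linear_combination -hf * hxy) (by linear_combination hf * hxy)
  · simp only [htt, iFour, comp2, hjj, mk2_mul]
    exact mk2_congr (by linear_combination (0 : ZMod p) * hxy)
      (by linear_combination (0 : ZMod p) * hxy) (by linear_combination (0 : ZMod p) * hxy)
      (by linear_combination (0 : ZMod p) * hxy)
  · have e : tt.1 0 0 + tt.1 1 1 = -1 := by
      simp only [htt, mk2_00, mk2_11]
      linear_combination -hh
    obtain ⟨g, hg⟩ := exists_conj_comp2 hchar tt (by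
      rw [e]
      intro e'
      exact h3 (by linear_combination -e'))
    rw [e] at hg
    rw [← hg, conj_pow, show comp2 (-1 : ZMod p) = sThree _ from rfl, sThree_pow, mul_one,
      mul_inv_cancel]

end Aux

/-- An element of a tight group's `r`-subgroup, `r ≤ 5` odd: the subgroup is cyclic. -/
theorem Tight.isCyclic_pGroup {K : Type*} [Field K] {V : Type*} [AddCommGroup V] [Module K V]
    [FiniteDimensional K V] {G : Type*} [Group G] [Finite G] {ρ : Representation K G V} (h : Tight ρ)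
    {r : ℕ} [Fact r.Prime] (hr5 : r ≤ 5) (hr2 : r ≠ 2) (S : Subgroup G) (hS : IsPGroup r S) :
    IsCyclic S := by
  rcases subsingleton_or_nontrivial S with hs | hs
  · infer_instance
  haveI := hS.center_nontrivial
  haveI : Nontrivial (center S) := inferInstance
  obtain ⟨n, hn, hcard⟩ := (hS.to_subgroup (center S)).nontrivial_iff_card.1 inferInstance
  obtain ⟨c, hc⟩ := exists_prime_orderOf_dvd_card' (G := center S) r
    (by rw [hcard]; exact dvd_pow_self r hn.ne')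
  have hc' : orderOf ((c : S) : G) = r := by rw [orderOf_coe, orderOf_coe, hc]
  have huniq : ∀ H : Subgroup S, Nat.card H = r → H = zpowers (c : S) := by
    intro H hH
    refine eq_of_le_of_card_ge (fun a ha => ?_) ?_
    · by_contra hna
      refine h.no_pair (r := r) hr5 (a := ((c : S) : G)) (b := (a : G)) ?_ ?_ ?_ ?_ ?_
      · exact congrArg Subtype.val ((mem_center_iff.1 c.2 a).symm)
      · rw [← hc', pow_orderOf_eq_one]
      · have := pow_card_eq_one' (x := (⟨a, ha⟩ : H))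
        rw [hH] at this
        simpa using congrArg (fun t : H => ((t : S) : G)) this
      · intro e
        rw [e, orderOf_one] at hc'
        exact (Fact.out : r.Prime).one_lt.ne hc'
      · intro hm
        obtain ⟨m, hm⟩ := mem_zpowers_iff.1 hm
        exact hna (mem_zpowers_iff.2 ⟨m, Subtype.ext (by simpa using hm)⟩)
    · rw [hH, Nat.card_zpowers, orderOf_coe, hc]
  rcases PGroups.UniqueSubgroup.isCyclic_or_quaternion hS
    (fun A B hA hB => (huniq A hA).trans (huniq B hB).symm) with hcyc | ⟨h', -⟩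
  · exact hcyc
  · exact absurd h' hr2

/-- A surjection onto `SL₂(p)` with odd kernel and no proper supplement of the kernel. -/
structure MinExt (p : ℕ) [Fact p.Prime] (L : Type*) [Group L] where
  /-- The map. -/
  φ : L →* SL(2, ZMod p)
  seven : 7 ≤ p
  surj : Function.Surjective φ
  minimal : ∀ S : Subgroup L, S.map φ = ⊤ → S = ⊤
  odd : Odd (Nat.card φ.ker)

namespace MinExt

variable {p : ℕ} [Fact p.Prime] {L : Type*} [Group L] (E : MinExt p L)

theorem top_of_sup {S : Subgroup L} (h : S ⊔ E.φ.ker = ⊤) : S = ⊤ := by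
  refine E.minimal S ?_
  have := congrArg (Subgroup.map E.φ) h
  rwa [Subgroup.map_sup, (Subgroup.map_eq_bot_iff E.φ.ker).2 le_rfl, sup_bot_eq,
    ← MonoidHom.range_eq_map, MonoidHom.range_eq_top.2 E.surj] at this

include E in
theorem perfect : commutator L = ⊤ := by
  refine E.minimal _ ?_
  have hk : 3 < ENat.card (ZMod p) := by
    rw [ENat.card_eq_coe_fintype_card, ZMod.card]
    have := E.seven
    exact_mod_cast (by omega : 3 < p)
  rw [commutator_def, map_commutator, ← MonoidHom.range_eq_map, MonoidHom.range_eq_top.2 E.surj,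
    ← commutator_def, RootSubgroups.Degenerate.sl2_perfect hk]

include E in
theorem neg_one_ne : (-1 : SL(2, ZMod p)) ≠ 1 :=
  neg_one_ne_one (two_ne_zero_zmod (by have := E.seven; omega))

theorem eq_top_of_mem {C : Subgroup L} [C.Normal] {g : L} (hg : g ∈ C)
    (hnc : E.φ g ∉ center SL(2, ZMod p)) : C = ⊤ := by
  refine E.minimal C ?_
  haveI : (C.map E.φ).Normal := Normal.map inferInstance _ E.surj
  rcases PLocal.Blocks.SL2.normal_le_center_or_top
    (by rw [ZMod.card]; have := E.seven; omega) (C.map E.φ) with h | h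
  · exact absurd (h (mem_map_of_mem _ hg)) hnc
  · exact h

variable [Finite L]

theorem eq_one_of_sq {x : L} (hx : x ∈ E.φ.ker) (h : x * x = 1) : x = 1 := by
  have h1 : orderOf x ∣ 2 := orderOf_dvd_of_pow_eq_one (by rw [sq, h])
  have h2 : orderOf x ∣ Nat.card E.φ.ker := by
    have := orderOf_dvd_natCard (⟨x, hx⟩ : E.φ.ker)
    rwa [Subgroup.orderOf_mk] at this
  have h3 := Nat.dvd_gcd h1 h2
  rw [show Nat.gcd 2 (Nat.card E.φ.ker) = 1 from E.odd.coprime_two_left] at h3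
  exact orderOf_eq_one_iff.1 (Nat.dvd_one.1 h3)

/-- An involution over `-1` is central. -/
theorem involution_central {z : L} (hz : z * z = 1) (hφ : E.φ z = -1) : z ∈ center L := by
  have hT : centralizer ({z} : Set L) = ⊤ := by
    refine E.top_of_sup (eq_top_iff.2 fun g _ => ?_)
    have hzi : z⁻¹ = z := inv_eq_of_mul_eq_one_left hz
    set u := g * z * g⁻¹ * z with hu
    have huN : u ∈ E.φ.ker := by
      rw [MonoidHom.mem_ker, hu]
      simp [hφ]
    have hinv : z * u * z⁻¹ = u⁻¹ := by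
      rw [hu, hzi]
      simp only [mul_inv_rev, inv_inv, hzi, mul_assoc, hz, mul_one]
    obtain ⟨k, hk⟩ := E.odd
    have hcard : u ^ (2 * k + 1) = 1 := by
      rw [← hk]
      exact congrArg Subtype.val (pow_card_eq_one' (x := (⟨u, huN⟩ : E.φ.ker)))
    have hb : z * u ^ (k + 1) = (u ^ (k + 1))⁻¹ * z := by
      have := conj_pow (i := k + 1) (a := z) (b := u)
      rw [hinv, inv_pow] at this
      rw [this, mul_assoc, inv_mul_cancel, mul_one]
    have hb2 : u ^ (k + 1) * u ^ (k + 1) = u := by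
      rw [← pow_add, show k + 1 + (k + 1) = 2 * k + 1 + 1 by ring, pow_succ, hcard, one_mul]
    have hgz : g * z * g⁻¹ = u * z := by rw [hu, mul_assoc _ z z, hz, mul_one]
    set v := u ^ (k + 1) with hv
    have hv' : v * z * v⁻¹ = u * z := by
      have : z * v⁻¹ = v * z := by
        calc z * v⁻¹ = v * (v⁻¹ * z) * v⁻¹ := by group
          _ = v * (z * v) * v⁻¹ := by rw [hb]
          _ = v * z := by group
      rw [mul_assoc, this, ← mul_assoc, hb2]
    have hmem : v⁻¹ * g ∈ centralizer ({z} : Set L) := by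
      rw [mem_centralizer_singleton_iff]
      symm
      calc z * (v⁻¹ * g) = v⁻¹ * (v * z * v⁻¹) * g := by group
        _ = v⁻¹ * (g * z * g⁻¹) * g := by rw [hv', hgz]
        _ = v⁻¹ * g * z := by group
    have hdec : g = v * (v⁻¹ * g) := by group
    rw [hdec]
    exact mul_mem (le_sup_right (a := centralizer ({z} : Set L)) (b := E.φ.ker)
      (pow_mem huN _)) (le_sup_left (a := centralizer ({z} : Set L)) (b := E.φ.ker) hmem)
  exact centralizer_eq_top_iff_subset.1 hT rfl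

/-- Lifts of the generators of `SL₂(3)`. -/
theorem exists_lifts (h3 : ¬ 3 ∣ Nat.card E.φ.ker) :
    ∃ I J τ : L, I * I ∈ center L ∧ J * J ∈ center L ∧ (J * I)⁻¹ * (I * J) ∈ center L ∧
      τ * I = J * τ ∧ τ * J = I * J * τ ∧ τ ^ 3 = 1 ∧
      E.φ I ∉ center SL(2, ZMod p) ∧ E.φ τ ∉ center SL(2, ZMod p) := by
  obtain ⟨ii, jj, tt, hii, hjj, hij, hti, htj, htt⟩ := exists_a4 E.seven
  have hm1 := E.neg_one_ne
  have hiic : ii ∉ center SL(2, ZMod p) := fun hc => by
    have e := mem_center_iff.1 hc jj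
    rw [e] at hij
    refine hm1 (mul_right_cancel (b := ii * jj) ?_)
    rw [neg_one_mul, one_mul, ← hij]
  have httc : tt ∉ center SL(2, ZMod p) := fun hc => by
    rw [← mem_center_iff.1 hc ii] at hti
    have e : ii = jj := mul_right_cancel hti
    rw [← e] at hij
    exact hm1 (mul_right_cancel (b := ii * ii) (by rw [neg_one_mul, one_mul, ← hij]))
  -- the two-group
  set Q : Subgroup SL(2, ZMod p) := zpowers ii ⊔ zpowers jj with hQ
  have hiQ : ii ∈ Q := le_sup_left (a := zpowers ii) (mem_zpowers _)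
  have hjQ : jj ∈ Q := le_sup_right (b := zpowers jj) (mem_zpowers _)
  have hinv : ∀ a : SL(2, ZMod p), a * a = -1 → a⁻¹ = -a := fun a ha =>
    inv_eq_of_mul_eq_one_right (by rw [mul_neg, ha, neg_neg])
  have hpg : ∀ a : SL(2, ZMod p), a * a = -1 → IsPGroup 2 (zpowers a) := fun a ha => by
    rintro ⟨x, hx⟩
    obtain ⟨n, rfl⟩ := mem_zpowers_iff.1 hx
    refine ⟨2, Subtype.ext ?_⟩
    push_cast
    rw [← zpow_natCast, ← zpow_mul, mul_comm, zpow_mul, zpow_natCast,
      show a ^ (4 : ℕ) = a * a * (a * a) by simp [pow_succ, mul_assoc], ha, neg_mul_neg, one_mul,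
      one_zpow]
  have hQp : IsPGroup 2 Q := by
    refine (hpg ii hii).to_sup_of_normal_right' (hpg jj hjj) (zpowers_le.2 ?_)
    have hconj : ii * jj * ii⁻¹ = jj⁻¹ := by
      rw [hinv jj hjj, hij, neg_mul, mul_inv_cancel_right]
    rw [mem_normalizer_iff]
    intro x
    constructor
    · intro hx
      obtain ⟨n, rfl⟩ := mem_zpowers_iff.1 hx
      rw [← conj_zpow, hconj, inv_zpow]
      exact inv_mem (zpow_mem (mem_zpowers jj) n)
    · intro hx
      obtain ⟨n, hn⟩ := mem_zpowers_iff.1 hx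
      have : x = ii⁻¹ * jj ^ n * ii := by rw [hn]; group
      rw [this]
      have hconj' : ii⁻¹ * jj * ii = jj⁻¹ := by
        calc ii⁻¹ * jj * ii = ii⁻¹ * (jj⁻¹)⁻¹ * ii := by rw [inv_inv]
          _ = ii⁻¹ * (ii * jj * ii⁻¹)⁻¹ * ii := by rw [hconj]
          _ = jj⁻¹ := by group
      have h' := conj_zpow (i := n) (a := ii⁻¹) (b := jj)
      rw [inv_inv] at h'
      rw [← h', hconj', inv_zpow]
      exact inv_mem (zpow_mem (mem_zpowers jj) n)
  have httQ : ∀ q ∈ Q, tt * q * tt⁻¹ ∈ Q := by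
    have : Q ≤ Q.comap (MulAut.conj tt).toMonoidHom := by
      refine sup_le (zpowers_le.2 ?_) (zpowers_le.2 ?_)
      · show tt * ii * tt⁻¹ ∈ Q
        rw [hti, mul_inv_cancel_right]
        exact hjQ
      · show tt * jj * tt⁻¹ ∈ Q
        rw [htj, mul_inv_cancel_right]
        exact mul_mem hiQ hjQ
    exact fun q hq => this hq
  -- the Sylow subgroup of the preimage
  set Y : Subgroup L := Q.comap E.φ with hY
  obtain ⟨P⟩ : Nonempty (Sylow 2 Y) := inferInstance
  set S₀ : Subgroup L := (P : Subgroup Y).map Y.subtype with hS₀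
  have hinj : ∀ a ∈ S₀, ∀ b ∈ S₀, E.φ a = E.φ b → a = b := by
    intro a ha b hb e
    have hd : a⁻¹ * b ∈ S₀ := mul_mem (inv_mem ha) hb
    obtain ⟨k, hk⟩ := (P.2.map Y.subtype) ⟨a⁻¹ * b, hd⟩
    have hk' : (a⁻¹ * b) ^ 2 ^ k = 1 := congrArg Subtype.val hk
    have hker : a⁻¹ * b ∈ E.φ.ker := by
      rw [MonoidHom.mem_ker, map_mul, map_inv, e, inv_mul_cancel]
    have hN : (a⁻¹ * b) ^ Nat.card E.φ.ker = 1 :=
      congrArg Subtype.val (pow_card_eq_one' (x := (⟨_, hker⟩ : E.φ.ker)))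
    have hg := pow_gcd_eq_one.2 ⟨hk', hN⟩
    rw [(E.odd.coprime_two_left.pow_left k).gcd_eq_one, pow_one] at hg
    exact inv_mul_eq_one.1 hg
  have hlift : ∀ q ∈ Q, ∃ s ∈ S₀, E.φ s = q := by
    intro q hq
    have hf := E.φ.subgroupComap_surjective_of_surjective Q E.surj
    have htop : ((P.mapSurjective hf : Sylow 2 Q) : Subgroup Q) = ⊤ :=
      ((P.mapSurjective hf).3 (hQp.of_equiv Subgroup.topEquiv.symm) le_top).symm
    have hm : (⟨q, hq⟩ : Q) ∈ ((P.mapSurjective hf : Sylow 2 Q) : Subgroup Q) := by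
      rw [htop]; exact mem_top _
    obtain ⟨s, hs, e⟩ := hm
    exact ⟨s, mem_map_of_mem _ hs, congrArg Subtype.val e⟩
  obtain ⟨I, hI, eI⟩ := hlift ii hiQ
  obtain ⟨J, hJ, eJ⟩ := hlift jj hjQ
  -- conjugation by a lift of `tt`
  obtain ⟨g, hg⟩ := E.surj tt
  let e₀ : Y →* Y := ((MulAut.conj g).toMonoidHom.comp Y.subtype).codRestrict Y fun y => by
    show E.φ (g * y * g⁻¹) ∈ Q
    rw [map_mul, map_mul, map_inv, hg]
    exact httQ _ y.2
  have he : Function.Surjective e₀ := Finite.injective_iff_surjective.1 fun a b e => by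
    have e' : g * a * g⁻¹ = g * b * g⁻¹ := congrArg Subtype.val e
    exact Subtype.ext (mul_left_cancel (mul_right_cancel e'))
  obtain ⟨y, hy⟩ := MulAction.exists_smul_eq Y (P.mapSurjective he) P
  obtain ⟨s, hs, es⟩ := hlift (E.φ y) y.2
  set t₁ : L := s⁻¹ * y * g with ht₁
  have ht₁' : ∀ x ∈ S₀, t₁ * x * t₁⁻¹ ∈ S₀ := by
    rintro _ ⟨x, hx, rfl⟩
    have h1 : e₀ x ∈ (P.mapSurjective he : Sylow 2 Y) := mem_map_of_mem _ hx
    have h2 : y * e₀ x * y⁻¹ ∈ (P : Subgroup Y) := by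
      rw [← hy]
      exact smul_mem_pointwise_smul _ (MulAut.conj y) _ h1
    have h3' := mul_mem (mul_mem (inv_mem hs) (mem_map_of_mem Y.subtype h2)) hs
    have : t₁ * (Y.subtype x) * t₁⁻¹ = s⁻¹ * Y.subtype (y * e₀ x * y⁻¹) * s := by
      rw [ht₁, map_mul, map_mul, map_inv]
      show _ = s⁻¹ * ((y : L) * (g * x * g⁻¹) * (y : L)⁻¹) * s
      simp only [mul_inv_rev, inv_inv, mul_assoc]
      rfl
    rw [this]
    exact h3'
  have het₁ : E.φ t₁ = tt := by
    rw [ht₁, map_mul, map_mul, map_inv, es, inv_mul_cancel, one_mul, hg]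
  set m := Nat.card E.φ.ker with hm
  have hmm : m * m % 3 = 1 := by
    rw [Nat.mul_mod]
    have : m % 3 = 1 ∨ m % 3 = 2 := by omega
    rcases this with e | e <;> rw [e]
  set τ := t₁ ^ (m * m) with hτ
  have hτS : ∀ x ∈ S₀, τ * x * τ⁻¹ ∈ S₀ := by
    rw [hτ]
    generalize m * m = k
    induction k with
    | zero => simp
    | succ k ih =>
      intro x hx
      rw [pow_succ]
      have := ih _ (ht₁' x hx)
      simpa only [mul_assoc, mul_inv_rev] using this
  have heτ : E.φ τ = tt := by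
    rw [hτ, map_pow, het₁, ← Nat.div_add_mod (m * m) 3, hmm, pow_add, pow_mul, htt, one_pow,
      one_mul, pow_one]
  have hτ3 : τ ^ 3 = 1 := by
    have hker : t₁ ^ 3 ∈ E.φ.ker := by rw [MonoidHom.mem_ker, map_pow, het₁, htt]
    have := congrArg Subtype.val (pow_card_eq_one' (x := (⟨_, hker⟩ : E.φ.ker)))
    rw [hτ, ← pow_mul, mul_comm, pow_mul, pow_mul,
      show (t₁ ^ 3) ^ m = 1 from this, one_pow]
  have hc : ∀ a ∈ S₀, E.φ a = -1 → a ∈ center L := fun a ha e =>
    E.involution_central (hinj _ (mul_mem ha ha) _ (one_mem _)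
      (by rw [map_mul, e, map_one, neg_mul_neg, one_mul])) e
  refine ⟨I, J, τ, hc _ (mul_mem hI hI) (by rw [map_mul, eI, hii]),
    hc _ (mul_mem hJ hJ) (by rw [map_mul, eJ, hjj]),
    hc _ (mul_mem (inv_mem (mul_mem hJ hI)) (mul_mem hI hJ)) ?_, ?_, ?_, hτ3, by rwa [eI],
    by rwa [heτ]⟩
  · rw [map_mul, map_inv, map_mul, map_mul, eI, eJ, hij, mul_neg, inv_mul_cancel]
  · refine mul_inv_eq_iff_eq_mul.1 (hinj _ (hτS I hI) J hJ ?_)
    rw [map_mul, map_mul, map_inv, heτ, eI, eJ, hti, mul_inv_cancel_right]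
  · refine mul_inv_eq_iff_eq_mul.1 (hinj _ (hτS J hJ) _ (mul_mem hI hJ) ?_)
    rw [map_mul, map_mul, map_inv, map_mul, heτ, eI, eJ, htj, mul_inv_cancel_right]

/-- A Sylow subgroup of the kernel is normal. -/
theorem sylow_normal {w : ℕ} [Fact w.Prime] (P : Sylow w E.φ.ker) :
    ((P : Subgroup E.φ.ker).map E.φ.ker.subtype).Normal :=
  normalizer_eq_top_iff.1 (E.top_of_sup P.normalizer_sup_eq_top)

/-- A central Sylow subgroup of the kernel is trivial. -/
theorem not_dvd_of_central {w : ℕ} [Fact w.Prime] (hw : w ≠ 2) (P : Sylow w E.φ.ker)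
    (hc : (P : Subgroup E.φ.ker).map E.φ.ker.subtype ≤ center L) :
    ¬ w ∣ Nat.card E.φ.ker := by
  set P₀ := (P : Subgroup E.φ.ker).map E.φ.ker.subtype with hP₀
  obtain ⟨k, hk⟩ := exists_zpowers_index E.seven hw (p := p)
  obtain ⟨g, hg⟩ := E.surj k
  haveI : P₀.Normal := E.sylow_normal P
  set H := P₀ ⊔ zpowers g with hH
  have hab : ∀ a ∈ H, ∀ b ∈ H, a * b = b * a := by
    intro a ha b hb
    obtain ⟨a₁, ha₁, a₂, ha₂, rfl⟩ := mem_sup_of_normal_left.1 ha
    obtain ⟨b₁, hb₁, b₂, hb₂, rfl⟩ := mem_sup_of_normal_left.1 hb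
    obtain ⟨i, rfl⟩ := mem_zpowers_iff.1 ha₂
    obtain ⟨j, rfl⟩ := mem_zpowers_iff.1 hb₂
    have c1 : ∀ t, Commute a₁ t := fun t => (mem_center_iff.1 (hc ha₁) t).symm
    have c2 : ∀ t, Commute b₁ t := fun t => (mem_center_iff.1 (hc hb₁) t).symm
    exact ((c1 _).mul_left ((c2 _).symm.mul_right (Commute.zpow_zpow_self g i j))).eq
  have hidx : ¬ w ∣ H.index := by
    intro hd
    set f := E.φ.comp H.subtype with hf
    have hfk : Nat.card P₀ ∣ Nat.card f.ker := by
      rw [← card_map_of_injective (K := f.ker) H.subtype_injective]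
      refine card_dvd_of_le fun x hx => ?_
      refine ⟨⟨x, le_sup_left (a := P₀) hx⟩, ?_, rfl⟩
      obtain ⟨x', -, rfl⟩ := hx
      exact x'.2
    have hfr : Nat.card (zpowers k) ∣ Nat.card f.range := by
      refine card_dvd_of_le (zpowers_le.2 ⟨⟨g, le_sup_right (b := zpowers g) (mem_zpowers g)⟩, hg⟩)
    have hcH : Nat.card f.ker * Nat.card f.range = Nat.card H := by
      rw [← index_ker, card_mul_index]
    have hL : Nat.card L = Nat.card E.φ.ker * Nat.card SL(2, ZMod p) := by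
      rw [← card_mul_index E.φ.ker, index_ker, MonoidHom.range_eq_top.2 E.surj, card_top]
    have hP : Nat.card P₀ = Nat.card (P : Subgroup E.φ.ker) :=
      card_map_of_injective E.φ.ker.subtype_injective
    have h1 : Nat.card P₀ * Nat.card (zpowers k) * H.index ∣ Nat.card L := by
      rw [← H.card_mul_index, ← hcH]
      exact mul_dvd_mul (mul_dvd_mul hfk hfr) dvd_rfl
    rw [hL, ← (P : Subgroup E.φ.ker).card_mul_index, ← (zpowers k).card_mul_index, hP,
      show Nat.card (P : Subgroup E.φ.ker) * (P : Subgroup E.φ.ker).index *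
        (Nat.card (zpowers k) * (zpowers k).index) = Nat.card (P : Subgroup E.φ.ker) *
        Nat.card (zpowers k) * ((P : Subgroup E.φ.ker).index * (zpowers k).index) by ring] at h1
    rcases (Fact.out : w.Prime).dvd_mul.1 (hd.trans (Nat.dvd_of_mul_dvd_mul_left
      (Nat.mul_pos Nat.card_pos Nat.card_pos) h1)) with h | h
    · exact P.not_dvd_index h
    · exact hk h
  have hbot : (P : Subgroup E.φ.ker) = ⊥ := by
    rw [eq_bot_iff]
    intro x hx
    have hx₀ : (x : L) ∈ P₀ := mem_map_of_mem _ hx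
    have h1 := ClassSizePSL.pow_index_eq_one (hc hx₀) (E.perfect ▸ mem_top _) H hab
    obtain ⟨n, hn⟩ := P.2 ⟨x, hx⟩
    have hn' : (x : L) ^ w ^ n = 1 := congrArg (fun t : (P : Subgroup E.φ.ker) => ((t : E.φ.ker) : L)) hn
    have h2 := pow_gcd_eq_one.2 ⟨hn', h1⟩
    rw [((((Fact.out : w.Prime).coprime_iff_not_dvd).2 hidx).pow_left n).gcd_eq_one, pow_one] at h2
    exact Subtype.ext h2
  have := P.not_dvd_index
  rwa [hbot, index_bot] at this

section Rep

variable {K : Type*} [Field K] {V : Type*} [AddCommGroup V] [Module K V] [FiniteDimensional K V]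
  {ρ : Representation K L V}

/-- The kernel has no elements of order three or five. -/
theorem not_dvd_small (h : Tight ρ) {w : ℕ} [Fact w.Prime] (hw5 : w ≤ 5) (hw2 : w ≠ 2) :
    ¬ w ∣ Nat.card E.φ.ker := by
  obtain ⟨P⟩ : Nonempty (Sylow w E.φ.ker) := inferInstance
  refine E.not_dvd_of_central hw2 P fun x hx => ?_
  set P₀ := (P : Subgroup E.φ.ker).map E.φ.ker.subtype with hP₀
  haveI : P₀.Normal := E.sylow_normal P
  haveI := h.isCyclic_pGroup hw5 hw2 P₀ (P.2.map _)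
  have hker := Abelianization.commutator_subset_ker
    ((IsCyclic.mulAutMulEquiv P₀).toMonoidHom.comp (MulAut.conjNormal (H := P₀)))
  rw [E.perfect] at hker
  refine mem_center_iff.2 fun g => ?_
  have hg := MonoidHom.mem_ker.1 (hker (mem_top g))
  rw [MonoidHom.comp_apply, MulEquiv.coe_toMonoidHom, MulEquiv.map_eq_one_iff] at hg
  have e := congrArg (fun f : MulAut P₀ => ((f ⟨x, hx⟩ : P₀) : L)) hg
  simp only [MulAut.conjNormal_apply, MulAut.one_apply] at e
  exact mul_inv_eq_iff_eq_mul.1 e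

/-- A large prime does not divide the kernel. -/
theorem not_dvd_large (h : Tight ρ) (h3 : ¬ 3 ∣ Nat.card E.φ.ker) {w : ℕ} [Fact w.Prime]
    (hw2 : w ≠ 2) : ¬ w ∣ Nat.card E.φ.ker := by
  obtain ⟨I, J, τ, hI2, hJ2, hIJ, hτI, hτJ, hτ, hIc, hτc⟩ := E.exists_lifts h3
  -- the triple
  have htriple : ∀ x : L, Commute x (τ * x * τ⁻¹) → Commute x (τ * (τ * x * τ⁻¹) * τ⁻¹) →
      Commute (τ * x * τ⁻¹) (τ * (τ * x * τ⁻¹) * τ⁻¹) → x = τ * x * τ⁻¹ := by
    intro x c1 c2 c3
    by_contra hne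
    refine h.no_triple hτ c1 c2 c3 (by group) (by group) ?_ hne
    calc τ * (τ * (τ * x * τ⁻¹) * τ⁻¹) = τ ^ 3 * x * (τ ^ 3)⁻¹ * τ := by rw [pow_three']; group
      _ = x * τ := by rw [hτ, one_mul, inv_one, mul_one]
  -- abelian normal subgroups are central
  have habel : ∀ A : Subgroup L, A.Normal → (∀ a ∈ A, ∀ b ∈ A, a * b = b * a) → A ≤ center L := by
    intro A hA hab
    have hτA : τ ∈ centralizer (A : Set L) := by
      rw [mem_centralizer_iff]
      intro x hx
      have h1 := hA.conj_mem x hx τ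
      have h2 := hA.conj_mem _ h1 τ
      have e := htriple x (hab _ hx _ h1) (hab _ hx _ h2) (hab _ h1 _ h2)
      calc x * τ = τ * x * τ⁻¹ * τ := by rw [← e]
        _ = τ * x := inv_mul_cancel_right _ _
    exact centralizer_eq_top_iff_subset.1 (E.eq_top_of_mem hτA hτc)
  obtain ⟨P⟩ : Nonempty (Sylow w E.φ.ker) := inferInstance
  refine E.not_dvd_of_central hw2 P ?_
  set P₀ := (P : Subgroup E.φ.ker).map E.φ.ker.subtype with hP₀
  by_contra hnc
  obtain ⟨R, -, ⟨hRn, hRP, hRc⟩, hmin⟩ := Set.Finite.exists_le_minimal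
    (Set.toFinite {R : Subgroup L | R.Normal ∧ R ≤ P₀ ∧ ¬ R ≤ center L}) (a := P₀)
    ⟨E.sylow_normal P, le_rfl, hnc⟩
  have hRN : R ≤ E.φ.ker := fun x hx => by
    obtain ⟨x', -, rfl⟩ := hRP hx
    exact x'.2
  have hRw : IsPGroup w R := (P.2.map _).to_le hRP
  have hcomm : ⁅R, R⁆ ≤ center L := by
    by_contra hcc
    have hle : ⁅R, R⁆ ≤ R := commutator_le_left R R
    have hge : R ≤ ⁅R, R⁆ := hmin ⟨inferInstance, hle.trans hRP, hcc⟩ hle
    haveI := hRw.isNilpotent
    haveI : Nontrivial R := by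
      rw [nontrivial_iff_ne_bot]
      rintro rfl
      exact hRc bot_le
    have hlt := IsSolvable.commutator_lt_top_of_nontrivial R
    refine hlt.ne (map_injective R.subtype_injective ?_)
    rw [map_subtype_commutator, le_antisymm hle hge, ← MonoidHom.range_eq_map, range_subtype]
  have hcR : ∀ a ∈ R, ∀ b ∈ R, ⁅a, b⁆ ∈ center L ∧ ⁅a, b⁆ ∈ E.φ.ker := fun a ha b hb =>
    ⟨hcomm (commutator_mem_commutator ha hb), hRN (by
      rw [commutatorElement_def]
      exact mul_mem (mul_mem (mul_mem ha hb) (inv_mem ha)) (inv_mem hb))⟩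
  have hcom : ∀ g : L, ∀ a ∈ R, ∀ b ∈ R, g * a * g⁻¹ = a → g * b * g⁻¹ = b⁻¹ → Commute a b := by
    intro g a ha b hb h1 h2
    obtain ⟨hz, hzN⟩ := hcR a ha b hb
    rw [← commutatorElement_eq_one_iff_commute]
    refine E.eq_one_of_sq hzN ?_
    have e1 : ⁅a, b⁻¹⁆ = ⁅a, b⁆ := by
      have := conjugate_commutatorElement a b g
      rw [h1, h2] at this
      rw [← this, mem_center_iff.1 hz g, mul_inv_cancel_right]
    have e2 : ⁅a, b⁻¹⁆ = b⁻¹ * ⁅a, b⁆⁻¹ * b := by
      simp only [commutatorElement_def, mul_inv_rev, inv_inv, mul_assoc, inv_mul_cancel, mul_one,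
        inv_mul_cancel_left]
    rw [mem_center_iff.1 (inv_mem hz) b⁻¹, inv_mul_cancel_right, e1] at e2
    calc ⁅a, b⁆ * ⁅a, b⁆ = ⁅a, b⁆ * ⁅a, b⁆⁻¹ := by rw [← e2]
      _ = 1 := mul_inv_cancel _
  -- the two commuting operators
  have hcen : ∀ c ∈ center L, ∀ x : L, c * x * c⁻¹ = x := fun c hc x => by
    rw [← mem_center_iff.1 hc x, mul_inv_cancel_right]
  have hi2 : ∀ x : L, I * (I * x * I⁻¹) * I⁻¹ = x := fun x => by
    conv_rhs => rw [← hcen _ hI2 x]
    group
  have hj2 : ∀ x : L, J * (J * x * J⁻¹) * J⁻¹ = x := fun x => by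
    conv_rhs => rw [← hcen _ hJ2 x]
    group
  have hji : ∀ x : L, I * (J * x * J⁻¹) * I⁻¹ = J * (I * x * I⁻¹) * J⁻¹ := fun x => by
    conv_rhs => rw [← hcen _ hIJ x]
    group
  have hconj1 : ∀ x : L, J * (τ * x * τ⁻¹) * J⁻¹ = τ * (I * x * I⁻¹) * τ⁻¹ := fun x => by
    calc J * (τ * x * τ⁻¹) * J⁻¹ = (J * τ) * x * (J * τ)⁻¹ := by group
      _ = (τ * I) * x * (τ * I)⁻¹ := by rw [hτI]
      _ = _ := by group
  have hconj2 : ∀ x : L, I * (J * (τ * x * τ⁻¹) * J⁻¹) * I⁻¹ = τ * (J * x * J⁻¹) * τ⁻¹ := fun x => by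
    calc I * (J * (τ * x * τ⁻¹) * J⁻¹) * I⁻¹ = (I * J * τ) * x * (I * J * τ)⁻¹ := by group
      _ = (τ * J) * x * (τ * J)⁻¹ := by rw [hτJ]
      _ = _ := by group
  obtain ⟨r, hr, hrI⟩ : ∃ r ∈ R, I * r * I⁻¹ ≠ r := by
    by_contra hall
    push Not at hall
    refine hRc (centralizer_eq_top_iff_subset.1 (E.eq_top_of_mem (C := centralizer (R : Set L))
      (mem_centralizer_iff.2 fun x hx => ?_) hIc))
    exact ((mul_inv_eq_iff_eq_mul.1 (hall x hx))).symm
  -- an element inverted by one and fixed by the other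
  obtain ⟨x, hx, hx1, hix, hjx⟩ : ∃ x ∈ R, x ≠ 1 ∧ I * x * I⁻¹ = x⁻¹ ∧ J * x * J⁻¹ = x := by
    set y := I * r * I⁻¹ * r⁻¹ with hy
    have hyR : y ∈ R := mul_mem (hRn.conj_mem r hr I) (inv_mem hr)
    have hy1 : y ≠ 1 := fun e => hrI (mul_inv_eq_one.1 e)
    have hiy : I * y * I⁻¹ = y⁻¹ := by
      calc I * y * I⁻¹ = (I * (I * r * I⁻¹) * I⁻¹) * (I * r * I⁻¹)⁻¹ := by rw [hy]; group
        _ = r * (I * r * I⁻¹)⁻¹ := by rw [hi2]
        _ = y⁻¹ := by rw [hy]; group
    set u := y⁻¹ * (J * y * J⁻¹) with hu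
    have huR : u ∈ R := mul_mem (inv_mem hyR) (hRn.conj_mem y hyR J)
    by_cases hu1 : u = 1
    · exact ⟨y, hyR, hy1, hiy, (inv_mul_eq_one.1 hu1).symm⟩
    have hju : J * u * J⁻¹ = u⁻¹ := by
      calc J * u * J⁻¹ = (J * y * J⁻¹)⁻¹ * (J * (J * y * J⁻¹) * J⁻¹) := by rw [hu]; group
        _ = (J * y * J⁻¹)⁻¹ * y := by rw [hj2]
        _ = u⁻¹ := by rw [hu]; group
    obtain ⟨hz, hzN⟩ := hcR y hyR u⁻¹ (inv_mem huR)
    have hiu : I * u * I⁻¹ = ⁅y, u⁻¹⁆ * u⁻¹ := by
      calc I * u * I⁻¹ = (I * y * I⁻¹)⁻¹ * (I * (J * y * J⁻¹) * I⁻¹) := by rw [hu]; group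
        _ = y * (J * y⁻¹ * J⁻¹) := by rw [hji, hiy, inv_inv]
        _ = ⁅y, u⁻¹⁆ * u⁻¹ := by rw [commutatorElement_def, hu]; group
    have hc1 : ⁅y, u⁻¹⁆ = 1 := by
      refine E.eq_one_of_sq hzN ?_
      have e := hji u
      rw [hju, hiu] at e
      have e' : I * u⁻¹ * I⁻¹ = u * ⁅y, u⁻¹⁆⁻¹ := by
        calc I * u⁻¹ * I⁻¹ = (I * u * I⁻¹)⁻¹ := by group
          _ = _ := by rw [hiu, mul_inv_rev, inv_inv]
      rw [e'] at e
      have e'' : J * (⁅y, u⁻¹⁆ * u⁻¹) * J⁻¹ = ⁅y, u⁻¹⁆ * u := by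
        calc J * (⁅y, u⁻¹⁆ * u⁻¹) * J⁻¹ = (J * ⁅y, u⁻¹⁆ * J⁻¹) * (J * u * J⁻¹)⁻¹ := by group
          _ = _ := by rw [hju, inv_inv, mem_center_iff.1 hz J, mul_inv_cancel_right]
      rw [e'', mem_center_iff.1 (inv_mem hz) u] at e
      calc ⁅y, u⁻¹⁆ * ⁅y, u⁻¹⁆ = ⁅y, u⁻¹⁆ * ⁅y, u⁻¹⁆⁻¹ := by rw [mul_right_cancel e]
        _ = 1 := mul_inv_cancel _
    rw [hc1, one_mul] at hiu
    -- rotate `u` twice
    set u₁ := τ * u * τ⁻¹ with hu₁
    have hj1 : J * u₁ * J⁻¹ = u₁⁻¹ := by rw [hu₁, hconj1, hiu]; group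
    have hi1 : I * u₁ * I⁻¹ = u₁ := by
      calc I * u₁ * I⁻¹ = (I * (J * u₁ * J⁻¹) * I⁻¹)⁻¹ := by rw [hj1]; group
        _ = u₁ := by rw [hu₁, hconj2, hju]; group
    refine ⟨τ * u₁ * τ⁻¹, hRn.conj_mem _ (hRn.conj_mem u huR τ) τ, ?_, ?_, ?_⟩
    · rw [ne_eq, conj_eq_one_iff, hu₁, conj_eq_one_iff]
      exact hu1
    · calc I * (τ * u₁ * τ⁻¹) * I⁻¹
          = I * (J * (τ * u₁ * τ⁻¹) * J⁻¹) * I⁻¹ := by rw [hconj1, hi1]
        _ = (τ * u₁ * τ⁻¹)⁻¹ := by rw [hconj2, hj1]; group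
    · rw [hconj1, hi1]
  set x₁ := τ * x * τ⁻¹ with hx₁
  have hx₁R : x₁ ∈ R := hRn.conj_mem x hx τ
  have hjx1 : J * x₁ * J⁻¹ = x₁⁻¹ := by rw [hx₁, hconj1, hix]; group
  have hix1 : I * x₁ * I⁻¹ = x₁⁻¹ := by
    calc I * x₁ * I⁻¹ = (I * (J * x₁ * J⁻¹) * I⁻¹)⁻¹ := by rw [hjx1]; group
      _ = x₁⁻¹ := by rw [hx₁, hconj2, hjx]
  set x₂ := τ * x₁ * τ⁻¹ with hx₂
  have hx₂R : x₂ ∈ R := hRn.conj_mem x₁ hx₁R τ
  have hjx2 : J * x₂ * J⁻¹ = x₂⁻¹ := by rw [hx₂, hconj1, hix1]; group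
  have hix2 : I * x₂ * I⁻¹ = x₂ := by
    calc I * x₂ * I⁻¹ = (I * (J * x₂ * J⁻¹) * I⁻¹)⁻¹ := by rw [hjx2]; group
      _ = x₂ := by rw [hx₂, hconj2, hjx1]; group
  have e := htriple x (hcom J x hx x₁ hx₁R hjx hjx1)
    (hcom I x₂ hx₂R x hx hix2 hix).symm (hcom I x₂ hx₂R x₁ hx₁R hix2 hix1).symm
  rw [← hx₁] at e
  rw [← e, hjx] at hjx1
  refine hx1 (E.eq_one_of_sq (hRN hx) ?_)
  calc x * x = x * x⁻¹ := by rw [← hjx1]
    _ = 1 := mul_inv_cancel _

end Rep

end MinExt

/-- An extension of `SL₂(p)` by a group of odd order has no tight representation. -/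
theorem not_tight_of_surjective {p : ℕ} [Fact p.Prime] (hp : 7 ≤ p) {W : Type*} [Group W] [Finite W]
    (φ : W →* SL(2, ZMod p)) (hφ : Function.Surjective φ) (hodd : Odd (Nat.card φ.ker))
    {K : Type*} [Field K] [IsAlgClosed K] {V : Type*} [AddCommGroup V] [Module K V]
    [FiniteDimensional K V] (ρ : Representation K W V) : ¬ Tight ρ := by
  intro h
  obtain ⟨S, -, hS, hmin⟩ := Set.Finite.exists_le_minimal
    (Set.toFinite {S : Subgroup W | S.map φ = ⊤}) (a := ⊤)
    (by show _ = _; rw [← MonoidHom.range_eq_map, MonoidHom.range_eq_top.2 hφ])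
  let E : MinExt p S :=
    { φ := φ.comp S.subtype
      seven := hp
      surj := fun q => by
        obtain ⟨s, hs, e⟩ := (hS ▸ mem_top q : q ∈ S.map φ)
        exact ⟨⟨s, hs⟩, e⟩
      minimal := fun T hT => by
        have hle : T.map S.subtype ≤ S := map_subtype_le T
        have hge : S ≤ T.map S.subtype :=
          hmin (show (T.map S.subtype).map φ = ⊤ by rw [map_map, hT]) hle
        rw [eq_top_iff]
        intro s _
        obtain ⟨t, ht, e⟩ := hge s.2
        rwa [← S.subtype_injective e]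
      odd := by
        refine Odd.of_dvd_nat hodd ?_
        rw [← card_map_of_injective (K := (φ.comp S.subtype).ker) S.subtype_injective]
        refine card_dvd_of_le ?_
        rintro _ ⟨s, hs, rfl⟩
        exact hs }
  have hT : Tight (K := K) (V := V) (ρ.comp S.subtype) := h.comp S.subtype_injective
  have hone : Nat.card E.φ.ker = 1 := by
    by_contra hne
    obtain ⟨w, hw, hd⟩ := Nat.exists_prime_and_dvd hne
    haveI := Fact.mk hw
    have hw2 : w ≠ 2 := fun e => by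
      subst e
      exact Nat.not_even_iff_odd.2 E.odd (even_iff_two_dvd.2 hd)
    haveI : Fact (Nat.Prime 3) := ⟨Nat.prime_three⟩
    exact E.not_dvd_large hT (E.not_dvd_small hT (by norm_num) (by norm_num)) hw2 hd
  have hinj : Function.Injective E.φ :=
    (MonoidHom.ker_eq_bot_iff _).1 (eq_bot_of_card_eq _ hone)
  let e := (MulEquiv.ofBijective E.φ ⟨hinj, E.surj⟩).symm
  exact not_tight_SL2 hp _ (hT.comp (f := e.toMonoidHom) e.injective)

end Cfsg.Agent.FixDim
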