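import Cfsg.Prelude.Def_RootSubgroups
import Cfsg.Agent.Lib.FixDim.Kernel
import Cfsg.Agent.S3099
import Cfsg.Agent.S0205
import Cfsg.Agent.InvChar.Core
import Cfsg.Agent.Lib.Perm.Fpf.AutBound

/-!
# Tight representations force a small quotient by the soluble radical
-/

set_option autoImplicit false

namespace Cfsg.Agent.FixDim

open Subgroup
open scoped MatrixGroups

theorem mem_zpowers_of_cyclic {Q : Type*} [Group Q] [Finite Q] (A : Subgroup Q) [IsCyclic A] {r : ℕ}
    [Fact r.Prime] {a b : Q} (ha : a ∈ A) (hb : b ∈ A) (har : a ^ r = 1) (hbr : b ^ r = 1)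
    (ha1 : a ≠ 1) : b ∈ zpowers a := by
  classical
  letI := Fintype.ofFinite A
  have h1 := IsCyclic.card_pow_eq_one_le (α := A) (Fact.out : r.Prime).pos
  set a' : A := ⟨a, ha⟩ with ha'
  have ho : orderOf a' = r := by rw [ha', Subgroup.orderOf_mk, orderOf_eq_prime har ha1]
  have hsub : ((zpowers a' : Subgroup A) : Set A).toFinset ⊆
      Finset.univ.filter fun x : A => x ^ r = 1 := by
    intro x hx
    rw [Set.mem_toFinset, SetLike.mem_coe, mem_zpowers_iff] at hx
    obtain ⟨n, rfl⟩ := hx
    simp only [Finset.mem_filter, Finset.mem_univ, true_and]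
    rw [← zpow_natCast, ← zpow_mul, mul_comm, zpow_mul, zpow_natCast, ← ho, pow_orderOf_eq_one,
      one_zpow]
  have hc : ((zpowers a' : Subgroup A) : Set A).toFinset.card = r := by
    rw [Set.toFinset_card, ← Nat.card_eq_fintype_card]
    exact (Nat.card_zpowers a').trans ho
  have heq := Finset.eq_of_subset_of_card_le hsub (by omega)
  have hbm : (⟨b, hb⟩ : A) ∈ zpowers a' := by
    rw [← SetLike.mem_coe, ← Set.mem_toFinset, heq]
    simp only [Finset.mem_filter, Finset.mem_univ, true_and]
    exact Subtype.ext hbr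
  obtain ⟨n, hn⟩ := mem_zpowers_iff.1 hbm
  exact mem_zpowers_iff.2 ⟨n, by simpa [ha'] using congrArg Subtype.val hn⟩

/-- A tight group has no quotient with two independent commuting elements of order three, or five. -/
theorem Tight.no_pair_quot {K : Type*} [Field K] {V : Type*} [AddCommGroup V] [Module K V]
    [FiniteDimensional K V] {D : Type*} [Group D] [Finite D] {ρ : Representation K D V} (h : Tight ρ)
    {Q : Type*} [Group Q] [Finite Q] (π : D →* Q) (hπ : Function.Surjective π)
    {r : ℕ} [Fact r.Prime] (hr5 : r ≤ 5) (hr2 : r ≠ 2) {a b : Q} (hab : Commute a b)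
    (ha : a ^ r = 1) (hb : b ^ r = 1) (ha1 : a ≠ 1) (hb2 : b ∉ zpowers a) : False := by
  set A : Subgroup Q := zpowers a ⊔ zpowers b with hA
  have hp : ∀ c : Q, c ^ r = 1 → IsPGroup r (zpowers c) := fun c hc => by
    rintro ⟨x, hx⟩
    obtain ⟨n, rfl⟩ := mem_zpowers_iff.1 hx
    refine ⟨1, Subtype.ext ?_⟩
    push_cast
    rw [pow_one, ← zpow_natCast, ← zpow_mul, mul_comm, zpow_mul, zpow_natCast, hc, one_zpow]
  have hAp : IsPGroup r A := (hp a ha).to_sup_of_normal_right' (hp b hb) <| by
    refine le_trans ?_ (Subgroup.centralizer_le_normalizer _)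
    rw [zpowers_le, mem_centralizer_iff]
    intro x hx
    obtain ⟨n, rfl⟩ := mem_zpowers_iff.1 hx
    exact ((hab.zpow_right n).eq).symm
  obtain ⟨P⟩ : Nonempty (Sylow r (A.comap π)) := inferInstance
  have hf := π.subgroupComap_surjective_of_surjective A hπ
  haveI hPc : IsCyclic (P : Subgroup (A.comap π)) := by
    haveI := h.isCyclic_pGroup hr5 hr2 ((P : Subgroup (A.comap π)).map (A.comap π).subtype)
      (P.2.map _)
    exact isCyclic_of_injective ((P : Subgroup (A.comap π)).equivMapOfInjective _
      (A.comap π).subtype_injective).toMonoidHom (MulEquiv.injective _)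
  have htop : ((P.mapSurjective hf : Sylow r A) : Subgroup A) = ⊤ :=
    ((P.mapSurjective hf).3 (hAp.of_equiv Subgroup.topEquiv.symm) le_top).symm
  haveI : IsCyclic A := by
    refine isCyclic_of_surjective ((π.subgroupComap A).comp (P : Subgroup (A.comap π)).subtype) ?_
    intro q
    obtain ⟨s, hs, e⟩ := (htop ▸ mem_top q : q ∈ ((P.mapSurjective hf : Sylow r A) : Subgroup A))
    exact ⟨⟨s, hs⟩, e⟩
  exact hb2 (mem_zpowers_of_cyclic A (le_sup_left (a := zpowers a) (mem_zpowers a))
    (le_sup_right (b := zpowers b) (mem_zpowers b)) ha hb ha1)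

theorem exists_perfect_residual (H : Type*) [Group H] [Finite H] (hns : ¬ Group.IsSolvable H) :
    ∃ D : Subgroup H, ∃ _ : D.Normal, Group.IsPerfect D ∧ Nontrivial D ∧
      Group.IsSolvable (H ⧸ D) := by
  obtain ⟨k, hk⟩ : ∃ k, derivedSeries H (k + 1) = derivedSeries H k := by
    by_contra hne
    push Not at hne
    have hdec : ∀ k, Nat.card (derivedSeries H k) + k ≤ Nat.card H := by
      intro k
      induction k with
      | zero => simp
      | succ k ih =>
        have hle : derivedSeries H (k + 1) ≤ derivedSeries H k := derivedSeries_antitone H (Nat.le_succ k)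
        have hlt : Nat.card (derivedSeries H (k + 1)) < Nat.card (derivedSeries H k) := by
          by_contra hge
          exact hne k (Subgroup.eq_of_le_of_card_ge hle (not_lt.1 hge))
        omega
    have := hdec (Nat.card H + 1)
    omega
  haveI := derivedSeries_normal H k
  refine ⟨derivedSeries H k, inferInstance, ⟨?_⟩, ?_, ?_⟩
  · refine map_injective (derivedSeries H k).subtype_injective ?_
    rw [map_subtype_commutator, ← MonoidHom.range_eq_map, range_subtype]
    exact hk
  · rw [nontrivial_iff_ne_bot]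
    exact fun hb => hns ((Group.isSolvable_def H).2 ⟨k, hb⟩)
  · refine (Group.isSolvable_def _).2 ⟨k, ?_⟩
    rw [← map_derivedSeries_eq (QuotientGroup.mk'_surjective (derivedSeries H k)) k,
      Subgroup.map_eq_bot_iff, QuotientGroup.ker_mk']

variable {H : Type*} [Group H] [Finite H] {D : Subgroup H} [D.Normal]

/-- The radical of a group whose perfect residual is a cover of `SL₂(5)`. -/
theorem index_le_of_SL25 (hHD : Group.IsSolvable (H ⧸ D)) [(Cfsg.oddCore D).Characteristic]
    (e : D ⧸ Cfsg.oddCore D ≃* SL(2, ZMod 5)) : (Cfsg.solvableRadical H).index ≤ 120 := by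
  set O := Cfsg.oddCore D with hO
  have hmap : ∀ h : H, O.map (MulAut.conjNormal h : MulAut D).toMonoidHom = O := fun h =>
    Subgroup.characteristic_iff_map_eq.1 inferInstance _
  let θ : H →* MulAut (D ⧸ O) :=
    { toFun := fun h => QuotientGroup.congr O O (MulAut.conjNormal h) (hmap h)
      map_one' := by
        ext x
        obtain ⟨x, rfl⟩ := QuotientGroup.mk'_surjective O x
        simp
      map_mul' := fun a b => by
        ext x
        obtain ⟨x, rfl⟩ := QuotientGroup.mk'_surjective O x
        simp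
        rfl }
  set P₀ : Subgroup D := (center (D ⧸ O)).comap (QuotientGroup.mk' O) with hP₀
  haveI : Group.IsSolvable O := Cfsg.Agent.S0205.result InvChar.Core.odd_card_oddCore
  have hOP : O ≤ P₀ := fun x hx => by
    rw [hP₀, mem_comap, QuotientGroup.mk'_apply, (QuotientGroup.eq_one_iff x).2 hx]
    exact one_mem _
  haveI : Group.IsSolvable (center (D ⧸ O)) :=
    isSolvable_of_comm fun a b => Subtype.ext (mem_center_iff.1 b.2 a)
  haveI : Group.IsSolvable P₀ := by
    refine solvable_of_ker_le_range (Subgroup.inclusion hOP)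
      (((QuotientGroup.mk' O).subgroupComap (center (D ⧸ O)))) fun x hx => ?_
    exact ⟨⟨x, (QuotientGroup.eq_one_iff (x : D)).1 (congrArg Subtype.val hx)⟩, Subtype.ext rfl⟩
  set C := θ.ker with hC
  have hCP : C.comap D.subtype ≤ P₀ := by
    intro d hd
    rw [hP₀, mem_comap, mem_center_iff]
    intro q
    obtain ⟨x, rfl⟩ := QuotientGroup.mk'_surjective O q
    have e1 := congrArg (fun f : MulAut (D ⧸ O) => f (x : D ⧸ O)) (MonoidHom.mem_ker.1 hd)
    have e2 : (MulAut.conjNormal (d : H) x : D) = d * x * d⁻¹ := Subtype.ext (by simp)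
    simp only [θ, MonoidHom.coe_mk, OneHom.coe_mk, MulAut.one_apply, Subgroup.coe_subtype,
      QuotientGroup.congr_mk, e2, QuotientGroup.mk_mul, QuotientGroup.mk_inv] at e1
    exact (mul_inv_eq_iff_eq_mul.1 e1).symm
  haveI : Group.IsSolvable (C.comap D.subtype) :=
    solvable_of_solvable_injective (f := Subgroup.inclusion hCP) (inclusion_injective hCP)
  haveI : Group.IsSolvable C := by
    refine solvable_of_ker_le_range (D.subtype.subgroupComap C)
      ((QuotientGroup.mk' D).comp C.subtype) fun x hx => ?_
    have hxD : (x : H) ∈ D := (QuotientGroup.eq_one_iff _).1 hx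
    exact ⟨⟨⟨x, hxD⟩, x.2⟩, rfl⟩
  haveI := Perm.Fpf.finite_sl25
  haveI : Finite (MulAut (D ⧸ O)) := Finite.of_injective (fun f : MulAut (D ⧸ O) => (f : D ⧸ O → D ⧸ O))
    DFunLike.coe_injective
  calc (Cfsg.solvableRadical H).index ≤ C.index :=
        Nat.le_of_dvd (Nat.pos_of_ne_zero index_ne_zero_of_finite)
          (index_dvd_of_le (le_sSup ⟨inferInstance, inferInstance⟩))
    _ = Nat.card θ.range := index_ker θ
    _ ≤ Nat.card (MulAut (D ⧸ O)) := Nat.card_le_card_of_injective _ θ.range.subtype_injective
    _ = Nat.card (MulAut SL(2, ZMod 5)) := Nat.card_congr (MulAut.congr e).toEquiv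
    _ ≤ 120 := Perm.Fpf.card_mulAut_le

/-- A tight representation forces the radical quotient to be small. -/
theorem index_solvableRadical_le {H : Type*} [Group H] [Finite H] {K : Type*} [Field K] [IsAlgClosed K]
    {V : Type*} [AddCommGroup V] [Module K V] [FiniteDimensional K V] (ρ : Representation K H V)
    (h : Tight ρ) : (Cfsg.solvableRadical H).index ≤ 120 := by
  by_cases hs : Group.IsSolvable H
  · have : Cfsg.solvableRadical H = ⊤ := by
      refine top_le_iff.1 (le_sSup ⟨inferInstance, ?_⟩)
      exact solvable_of_solvable_injective (f := (⊤ : Subgroup H).subtype) (subtype_injective _)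
    rw [this, index_top]
    norm_num
  obtain ⟨D, hDn, hperf, hnt, hquot⟩ := exists_perfect_residual H hs
  have hTD : Tight (K := K) (V := V) (ρ.comp D.subtype) := h.comp D.subtype_injective
  have hrank : Cfsg.PRankLE 2 1 D := by
    intro A hA hexp
    by_contra hlt
    haveI : Fact (Nat.Prime 2) := ⟨Nat.prime_two⟩
    obtain ⟨a, ha1⟩ : ∃ a : A, a ≠ 1 := by
      by_contra hall
      push Not at hall
      haveI : Subsingleton A := ⟨fun x y => (hall x).trans (hall y).symm⟩
      rw [Nat.card_of_subsingleton (1 : A)] at hlt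
      norm_num at hlt
    obtain ⟨b, hb⟩ : ∃ b : A, b ∉ zpowers a := by
      by_contra hall
      push Not at hall
      have : Nat.card A = orderOf a := by
        rw [← Nat.card_zpowers, (eq_top_iff' _).2 hall, card_top]
      have h2 : orderOf a ≤ 2 := orderOf_le_of_pow_eq_one (by norm_num) (Subtype.ext (hexp a a.2))
      omega
    refine hTD.no_pair (r := 2) (by norm_num) (a := (a : D)) (b := (b : D))
      (congrArg Subtype.val (hA.is_comm.comm a b)) (hexp a a.2) (hexp b b.2)
      (fun e => ha1 (Subtype.ext e)) fun hm => hb ?_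
    obtain ⟨n, hn⟩ := mem_zpowers_iff.1 hm
    exact mem_zpowers_iff.2 ⟨n, Subtype.ext (by simpa using hn)⟩
  have heven : Even (Nat.card D) := by
    by_contra hodd
    haveI := Cfsg.Agent.S0205.result (Nat.not_even_iff_odd.1 hodd)
    exact (IsSolvable.commutator_lt_top_of_nontrivial D).ne hperf.commutator_eq_top
  haveI : (Cfsg.oddCore D).Characteristic := InvChar.Core.pPrimeCore_characteristic 2
  haveI : Fact (Nat.Prime 3) := ⟨Nat.prime_three⟩
  set O := Cfsg.oddCore D with hO
  rcases Cfsg.Agent.S3099.result hperf hrank heven with ⟨F, _, _, hodd, hlt, ⟨e⟩⟩ | ⟨-, ⟨e⟩, -⟩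
  swap
  · -- two commuting three-cycles
    refine (hTD.no_pair_quot ((e.toMonoidHom.comp (QuotientGroup.mk' _)).comp (QuotientGroup.mk' O))
      ((e.surjective.comp (QuotientGroup.mk'_surjective _)).comp (QuotientGroup.mk'_surjective _))
      (r := 3) (by norm_num) (by norm_num)
      (a := ⟨c[(0 : Fin 7), 1, 2], Equiv.Perm.mem_alternatingGroup.2 (by decide)⟩) (b := ⟨c[(3 : Fin 7), 4, 5], Equiv.Perm.mem_alternatingGroup.2 (by decide)⟩)
      (Subtype.ext (by decide)) (Subtype.ext (by decide)) (Subtype.ext (by decide))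
      (by intro e'; exact absurd (congrArg Subtype.val e') (by decide)) ?_).elim
    intro hm
    obtain ⟨n, hn⟩ := mem_zpowers_iff.1 hm
    have hn' := congrArg (fun σ : alternatingGroup (Fin 7) => (σ : Equiv.Perm (Fin 7)) 3) hn
    have hfix : ((c[(0 : Fin 7), 1, 2] : Equiv.Perm (Fin 7)) ^ n) 3 = 3 :=
      Equiv.Perm.zpow_apply_eq_self_of_apply_eq_self (by decide) n
    simp only [SubgroupClass.coe_zpow, hfix] at hn'
    exact absurd hn' (by decide)
  obtain ⟨p, hcp⟩ := CharP.exists F
  haveI hpf : Fact p.Prime := ⟨(CharP.char_is_prime_or_zero F p).resolve_right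
    (CharP.char_ne_zero_of_finite F p)⟩
  have hp2 : p ≠ 2 := by
    rintro rfl
    obtain ⟨f, -, hf⟩ := FiniteField.card F 2
    rw [hf] at hodd
    exact Nat.not_even_iff_odd.2 hodd (Nat.even_pow.2 ⟨even_two, f.pos.ne'⟩)
  set π : D →* SL(2, F) := e.toMonoidHom.comp (QuotientGroup.mk' O) with hπ
  have hπs : Function.Surjective π := e.surjective.comp (QuotientGroup.mk'_surjective _)
  have hπO : ∀ x, π x = 1 → x ∈ O := fun x hx => by
    rw [hπ, MonoidHom.comp_apply, MulEquiv.coe_toMonoidHom, MulEquiv.map_eq_one_iff] at hx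
    exact (QuotientGroup.eq_one_iff x).1 hx
  by_cases hp5 : p ≤ 5
  · by_cases hsurj : Function.Surjective (ZMod.castHom (dvd_refl p) F)
    · have hq : Fintype.card F = p := by
        rw [← Fintype.card_of_bijective ⟨(ZMod.castHom (dvd_refl p) F).injective, hsurj⟩, ZMod.card]
      have hp : p = 5 := by
        rw [hq] at hlt
        have := hpf.out
        interval_cases p
        · exact absurd this (by norm_num)
        · rfl
      subst hp
      let eF : ZMod 5 ≃+* F :=
        RingEquiv.ofBijective _ ⟨(ZMod.castHom (dvd_refl 5) F).injective, hsurj⟩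
      let j : SL(2, ZMod 5) →* SL(2, F) := Matrix.SpecialLinearGroup.map eF.toRingHom
      have hj : Function.Bijective j := by
        refine ⟨fun A B e' => ?_, fun A => ⟨Matrix.SpecialLinearGroup.map eF.symm.toRingHom A, ?_⟩⟩
        · refine sl_ext ?_ ?_ ?_ ?_ <;>
            exact eF.injective (congrArg (fun M : SL(2, F) => M.1 _ _) e')
        · apply sl_ext <;> exact eF.apply_symm_apply _
      exact index_le_of_SL25 hquot (e.trans (MulEquiv.ofBijective j hj).symm)
    · rw [Function.Surjective] at hsurj
      push Not at hsurj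
      obtain ⟨t, ht⟩ := hsurj
      refine (hTD.no_pair_quot π hπs (r := p) hp5 hp2 (a := uT 1) (b := uT t)
        (by show _ = _; rw [uT_mul, uT_mul, add_comm]) ?_ ?_ (uT_ne_one one_ne_zero) ?_).elim
      · rw [uT_pow, CharP.cast_eq_zero, zero_mul, uT_zero]
      · rw [uT_pow, CharP.cast_eq_zero, zero_mul, uT_zero]
      · intro hm
        rw [mem_zpowers_iff] at hm
        obtain ⟨n, hn⟩ := hm
        let f : Multiplicative F →* SL(2, F) :=
          { toFun := fun s => uT (Multiplicative.toAdd s)
            map_one' := uT_zero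
            map_mul' := fun a b => (uT_mul _ _).symm }
        have e' : f (Multiplicative.ofAdd (n • (1 : F))) = uT t := by
          rw [ofAdd_zsmul, map_zpow]
          exact hn
        refine ht (n : ZMod p) ?_
        have e'' : n • (1 : F) = t := congrArg (fun M : SL(2, F) => M.1 0 1) e'
        rw [map_intCast, ← e'', zsmul_one]
  · have hp7 : 7 ≤ p := by
      have := hpf.out
      by_contra hc
      interval_cases p
      exact absurd this (by norm_num)
    set j : SL(2, ZMod p) →* SL(2, F) := Matrix.SpecialLinearGroup.map (ZMod.castHom (dvd_refl p) F)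
      with hj
    have hji : Function.Injective j := fun A B e' => by
      refine sl_ext ?_ ?_ ?_ ?_ <;>
        exact (ZMod.castHom (dvd_refl p) F).injective (congrArg (fun M : SL(2, F) => M.1 _ _) e')
    set W := j.range.comap π with hW
    set φ : W →* SL(2, ZMod p) :=
      (MonoidHom.ofInjective hji).symm.toMonoidHom.comp (π.subgroupComap j.range) with hφ
    refine (not_tight_of_surjective hp7 φ ((MonoidHom.ofInjective hji).symm.surjective.comp
      (π.subgroupComap_surjective_of_surjective _ hπs)) ?_ ((ρ.comp D.subtype).comp W.subtype)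
      (hTD.comp W.subtype_injective)).elim
    refine Odd.of_dvd_nat (InvChar.Core.odd_card_oddCore (G := D)) ?_
    rw [← card_map_of_injective (K := φ.ker) W.subtype_injective]
    refine card_dvd_of_le ?_
    rintro _ ⟨x, hx, rfl⟩
    rw [SetLike.mem_coe, MonoidHom.mem_ker, hφ, MonoidHom.comp_apply, MulEquiv.coe_toMonoidHom,
      MulEquiv.map_eq_one_iff] at hx
    exact hπO _ (congrArg Subtype.val hx)

end Cfsg.Agent.FixDim
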