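import Mathlib
import Cfsg.Agent.Lib.FixDim.Defining

/-!
# `SL₂(p)` has no tight representation for `p ≥ 7`
-/

set_option autoImplicit false

namespace Cfsg.Agent.FixDim

open Module LinearMap
open scoped MatrixGroups

universe v

variable {p : ℕ} [Fact p.Prime] {K : Type*} [Field K] [IsAlgClosed K]
  {V : Type v} [AddCommGroup V] [Module K V] [FiniteDimensional K V]

/-- `SL₂(p)` has no tight representation for `p ≥ 7`. -/
theorem not_tight_SL2 (hp : 7 ≤ p) (ρ : Representation K SL(2, ZMod p) V) : ¬ Tight ρ := by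
  intro h
  have h2z : (2 : ZMod p) ≠ 0 := two_ne_zero_zmod (by omega)
  have h2 : (2 : K) ≠ 0 := by
    have := h.natCast_ne_zero (r := 2) (g := (-1 : SL(2, ZMod p))) (by norm_num)
      (orderOf_eq_prime (by rw [sq, neg_one_mul, neg_neg]) (neg_one_ne_one h2z))
    exact_mod_cast this
  by_cases hpK : (p : K) = 0
  · haveI : CharP K p := CharP.congr _ (CharP.ringChar_of_prime_eq_zero Fact.out hpK)
    by_cases h3 : p % 3 = 1
    · obtain ⟨x, hx⟩ := exists_prime_orderOf_dvd_card' (G := (ZMod p)ˣ) 3 (by
        rw [Nat.card_eq_fintype_card, ZMod.card_units]; omega)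
      have hx3 : (x : ZMod p) ^ 3 = 1 := by
        rw [← Units.val_pow_eq_pow_val, ← hx, pow_orderOf_eq_one, Units.val_one]
      set y : ZMod p := (x : ZMod p) ^ 2 with hy
      have hy3 : y ^ 2 * y = 1 := by rw [hy]; linear_combination ((x : ZMod p) ^ 3 + 1) * hx3
      refine h.no_triple (τ := dT x) (a := uT 1) (b := uT y) (c := uT (y ^ 2)) ?_
        ?_ ?_ ?_ ?_ ?_ ?_ ?_
      · rw [pow_three, dT_mul, dT_mul, ← pow_three, ← hx, pow_orderOf_eq_one, dT_one]
      · show _ = _; rw [uT_mul, uT_mul, add_comm]
      · show _ = _; rw [uT_mul, uT_mul, add_comm]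
      · show _ = _; rw [uT_mul, uT_mul, add_comm]
      · rw [dT_conj_uT, mul_one]
      · rw [dT_conj_uT, ← hy, ← sq]
      · rw [dT_conj_uT, ← hy, mul_comm, hy3]
      · intro e
        have e' : (1 : ZMod p) = y := congrArg (fun A : SL(2, ZMod p) => A.1 0 1) e
        have hx1 : x ^ 2 = 1 := Units.ext (by rw [Units.val_pow_eq_pow_val, Units.val_one]; exact e'.symm)
        have := orderOf_dvd_of_pow_eq_one hx1
        rw [hx] at this
        omega
    · obtain ⟨ω, hω⟩ := IsAlgClosed.exists_eval₂_eq_zero (RingHom.id K)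
        (Polynomial.X ^ 2 + Polynomial.X + 1 : Polynomial K) (by
          rw [show (Polynomial.X ^ 2 + Polynomial.X + 1 : Polynomial K) =
            Polynomial.C 1 * Polynomial.X ^ 2 + Polynomial.C 1 * Polynomial.X + Polynomial.C 1 by simp,
            Polynomial.degree_quadratic one_ne_zero]
          decide)
      simp only [Polynomial.eval₂_add, Polynomial.eval₂_pow, Polynomial.eval₂_X,
        Polynomial.eval₂_one] at hω
      by_cases h11 : p = 11
      · exact not_tight_defining_eleven h11 hω ρ h
      · have hp17 : 17 ≤ p := by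
          by_contra hlt
          have hpp := (Fact.out : p.Prime)
          interval_cases p <;> first | omega | exact absurd hpp (by norm_num)
        exact not_tight_defining_large hp17 hω ρ h
  · exact not_tight_nondefining hp ρ h2 hpK h

end Cfsg.Agent.FixDim
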