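import Cfsg.Agent.Lib.FixDim.Basic

/-!
# Extension of scalars does not change fixed-point dimensions
-/

set_option autoImplicit false

namespace Cfsg.Agent.FixDim

open Matrix Module

variable {K L : Type*} [Field K] [Field L]

/-- The rank is unchanged by a field extension. -/
theorem rank_map_ringHom {n : Type*} [Fintype n] [DecidableEq n] (f : K →+* L) (M : Matrix n n K) :
    (M.map f).rank = M.rank := by
  classical
  obtain ⟨V, U, e, hV, hU, h⟩ := exists_rank_normal_form M
  have h' := congrArg f.mapMatrix h
  rw [map_mul, map_mul] at h'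
  have hV' := (isUnit_iff_isUnit_det _).1 (hV.map f.mapMatrix)
  have hU' := (isUnit_iff_isUnit_det _).1 (hU.map f.mapMatrix)
  have h2 := congrArg Matrix.rank h'
  rw [rank_mul_eq_left_of_isUnit_det _ _ hU', rank_mul_eq_right_of_isUnit_det _ _ hV',
    RingHom.mapMatrix_apply, RingHom.mapMatrix_apply, ← submatrix_map, rank_submatrix,
    fromBlocks_map, Matrix.map_one f (map_zero f) (map_one f), Matrix.map_zero f (map_zero f),
    Matrix.map_zero f (map_zero f), Matrix.map_zero f (map_zero f), ← diagonal_one, ← diagonal_zero,
    fromBlocks_diagonal, rank_diagonal] at h2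
  rw [h2]
  refine (Fintype.card_congr ?_).trans (Fintype.card_fin M.rank)
  exact
    { toFun := fun i => match i with
        | ⟨Sum.inl a, _⟩ => a
        | ⟨Sum.inr _, hb⟩ => absurd rfl hb
      invFun := fun a => ⟨Sum.inl a, one_ne_zero⟩
      left_inv := fun i => match i with
        | ⟨Sum.inl _, _⟩ => rfl
        | ⟨Sum.inr _, hb⟩ => absurd rfl hb
      right_inv := fun _ => rfl }

variable {V : Type*} [AddCommGroup V] [Module K V] [FiniteDimensional K V]
variable {G : Type*} [Group G]

/-- A matrix version of a representation over a larger field. -/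
noncomputable def extendScalars (f : K →+* L) (ρ : Representation K G V) :
    Representation L G (Fin (finrank K V) → L) :=
  ((Matrix.toLinAlgEquiv' : Matrix (Fin (finrank K V)) (Fin (finrank K V)) L ≃ₐ[L]
      Module.End L (Fin (finrank K V) → L)).toMonoidHom).comp
    (f.mapMatrix.toMonoidHom.comp
      ((LinearMap.toMatrixAlgEquiv (Module.finBasis K V)).toMonoidHom.comp ρ))

theorem fdim_extendScalars (f : K →+* L) (ρ : Representation K G V) (g : G) :
    fdim (extendScalars f ρ) g = fdim ρ g := by
  set b := Module.finBasis K V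
  set M := LinearMap.toMatrixAlgEquiv b (ρ g - 1) with hM
  have h1 : extendScalars f ρ g - 1 = Matrix.toLinAlgEquiv' (M.map f) := by
    rw [hM, map_sub, map_one, ← RingHom.mapMatrix_apply, map_sub, map_sub, map_one, map_one]
    rfl
  have h2 := (extendScalars f ρ g - 1).finrank_range_add_finrank_ker
  have h3 := (ρ g - 1).finrank_range_add_finrank_ker
  have e2 : finrank L (LinearMap.range (extendScalars f ρ g - 1)) = (M.map f).rank := by
    rw [h1]; rfl
  have e3 : finrank K (LinearMap.range (ρ g - 1)) = M.rank := by
    rw [M.rank_eq_finrank_range_toLin b b, hM,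
      show LinearMap.toMatrixAlgEquiv b (ρ g - 1) = LinearMap.toMatrix b b (ρ g - 1) from rfl,
      Matrix.toLin_toMatrix]
  rw [e2, rank_map_ringHom, Module.finrank_fin_fun] at h2
  rw [e3] at h3
  unfold fdim fixSp
  omega

end Cfsg.Agent.FixDim
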